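import Cfsg.Agent.Lib.Spor.ExtraS3A6.Decomp.Coord

/-!
The group of the model: additive isometries of the pair normalising the diagonal alternating group come from
`S₃ × S₆`.
-/

set_option autoImplicit false
set_option maxRecDepth 100000
set_option synthInstance.maxSize 2048
set_option linter.unusedSectionVars false

namespace Cfsg.Agent.Spor.ExtraS3A6

open Equiv

/-! ### the even subsets -/

theorem pB_add_left (x x' y : Pm) : pB (x + x') y = pB x y + pB x' y := by
  simp only [pB, Pi.add_apply]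
  ring

theorem pB_comm (x y : Pm) : pB x y = pB y x := by
  simp only [pB]
  ring

theorem pB_add_right (x y y' : Pm) : pB x (y + y') = pB x y + pB x y' := by
  rw [pB_comm, pB_add_left, pB_comm y, pB_comm y']

theorem pB_self : ∀ x : Pm, pB x x = 0 := by decide +kernel

theorem pB_nondeg : ∀ x : Pm, (∀ y, pB x y = 0) → x = 0 := by decide +kernel

theorem pact_pB_basis : ∀ g : Perm (Fin 6), ∀ i j : Fin 4,
    pB (pm g (Pi.single i 1)) (pm g (Pi.single j 1)) = pB (Pi.single i 1) (Pi.single j 1) := by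
  decide +kernel

/-- a scalar times a subset -/
def ps (e : ZMod 2) (x : Pm) : Pm := fun k => e * x k

theorem ps_zero (x : Pm) : ps 0 x = 0 := funext fun _ => zero_mul _

theorem ps_one (x : Pm) : ps 1 x = x := funext fun _ => one_mul _

theorem ps_map (L : Pm →+ Pm) (e : ZMod 2) (x : Pm) : L (ps e x) = ps e (L x) := by
  have he : e = 0 ∨ e = 1 := by revert e; decide
  rcases he with rfl | rfl
  · rw [ps_zero, ps_zero, map_zero]
  · rw [ps_one, ps_one]

theorem pB_ps_left (e : ZMod 2) (x y : Pm) : pB (ps e x) y = e * pB x y := by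
  simp only [pB, ps]
  ring

theorem single_sum : ∀ x : Pm, x = ps (x 0) (Pi.single 0 1) + ps (x 1) (Pi.single 1 1) + ps (x 2) (Pi.single 2 1) +
    ps (x 3) (Pi.single 3 1) := by decide +kernel

theorem pact_ps (g : Perm (Fin 6)) (e : ZMod 2) (x : Pm) : pact g (ps e x) = ps e (pact g x) :=
  ps_map (pact g).toAddMonoidHom e x

theorem pm_pB (g : Perm (Fin 6)) (x y : Pm) : pB (pm g x) (pm g y) = pB x y := by
  have hl : ∀ x, pm g x = ps (x 0) (pm g (Pi.single 0 1)) + ps (x 1) (pm g (Pi.single 1 1)) +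
      ps (x 2) (pm g (Pi.single 2 1)) + ps (x 3) (pm g (Pi.single 3 1)) := fun x => by
    conv_lhs => rw [single_sum x]
    simp only [← pact_apply, map_add, pact_ps]
  rw [hl x, hl y]
  conv_rhs => rw [single_sum x, single_sum y]
  simp only [pB_add_left, pB_add_right, pB_ps_left]
  simp only [pB_comm _ (ps _ _), pB_ps_left, pact_pB_basis]

theorem pact_pB (g : Perm (Fin 6)) (x y : Pm) : pB (pact g x) (pact g y) = pB x y := pm_pB g x y

theorem pm_faithful_all : ∀ g : Perm (Fin 6), (∀ k : Fin 4, pm g (Pi.single k 1) = Pi.single k 1) → g = 1 := by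
  decide +kernel

/-- the base subset -/
def x0 : Pm := ![1, 1, 0, 0]

/-- elements carrying the base subset to every other -/
def orbW : List A6 :=
  let a := gens1.a
  let b := gens1.b
  let c := gens1.c
  let t := gens1.t
  [1, a, c, t, a * a, c * a, t * a, b * c, c * c, c * t, t * a * a, b * c * a, t * c * a, b * c * t, b * b * c * a]

theorem x0_orbit : ∀ x : Pm, x ≠ 0 → ∃ g ∈ orbW, pm (g : Perm (Fin 6)) x0 = x := by decide +kernel

theorem x0_fixed : ∀ x : Pm, pm (gens1.b : Perm (Fin 6)) x = x →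
    pm (swap (0 : Fin 6) 1 * swap 2 3) x = x → x = 0 ∨ x = x0 := by decide +kernel

/-- equivariant maps kill nothing or everything -/
theorem irred {X : Type*} [AddGroup X] (L : Pm →+ X) (h : ∀ (g : A6) x, L x = 0 → L (pact (g : Perm (Fin 6)) x) = 0)
    {x : Pm} (hx : x ≠ 0) (hLx : L x = 0) : ∀ y, L y = 0 := by
  obtain ⟨g, -, hg⟩ := x0_orbit x hx
  have h0 : L x0 = 0 := by
    have e := h g⁻¹ x hLx
    rwa [← hg, ← pact_apply (g : Perm (Fin 6)), ← pact_mul, Subgroup.coe_inv, inv_mul_cancel,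
      show pact 1 x0 = x0 from pm_one x0] at e
  intro y
  by_cases hy : y = 0
  · rw [hy, map_zero]
  obtain ⟨g, -, rfl⟩ := x0_orbit y hy
  exact h g _ h0

/-- the commutant -/
theorem commutant (L : Pm →+ Pm) (h : ∀ (g : A6) x, L (pact (g : Perm (Fin 6)) x) = pact (g : Perm (Fin 6)) (L x)) :
    (∀ x, L x = 0) ∨ ∀ x, L x = x := by
  have hb : pm (gens1.b : Perm (Fin 6)) x0 = x0 := by decide +kernel
  have hv : pm (swap (0 : Fin 6) 1 * swap 2 3) x0 = x0 := by decide +kernel
  have e1 : pm (gens1.b : Perm (Fin 6)) (L x0) = L x0 := by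
    rw [← pact_apply, ← h, pact_apply, hb]
  have e2 : pm (swap (0 : Fin 6) 1 * swap 2 3) (L x0) = L x0 := by
    have e := h ⟨swap (0 : Fin 6) 1 * swap 2 3, Perm.mem_alternatingGroup.mpr (by decide +kernel)⟩ x0
    rw [pact_apply, pact_apply, hv] at e
    exact e.symm
  rcases x0_fixed _ e1 e2 with e | e
  · refine Or.inl fun x => ?_
    exact irred L (fun g x hx => by rw [h, hx, map_zero]) (by decide) e x
  · refine Or.inr fun x => ?_
    by_cases hx : x = 0
    · rw [hx, map_zero]
    obtain ⟨g, -, rfl⟩ := x0_orbit x hx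
    rw [← pact_apply, h, e]

/-- the membership in the two-element representative -/
def ind (u : Pm) (j : Fin 6) : Bool :=
  if (lift u 0).val + (lift u 1).val + (lift u 2).val + (lift u 3).val + (lift u 4).val + (lift u 5).val = 4
  then decide (lift u j = 0) else decide (lift u j = 1)

/-- the inverse of the permutation read off four subsets -/
def readOff (u : Fin 4 → Pm) (j : Fin 6) : Fin 6 :=
  if ind (u 0) j && ind (u 1) j then 5 else if ind (u 0) j then 0 else if ind (u 1) j then 1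
    else if ind (u 2) j then 2 else if ind (u 3) j then 3 else 4

/-- the subsets through the last point -/
def star (i : Fin 4) : Pm := fun k => if k = i then 0 else 1

theorem star_pB : ∀ i j, i ≠ j → pB (star i) (star j) = 1 := by decide +kernel

theorem star_sum : ∀ x : Pm, x = ps (x 0 + (x 0 + x 1 + x 2 + x 3)) (star 0) +
    ps (x 1 + (x 0 + x 1 + x 2 + x 3)) (star 1) + ps (x 2 + (x 0 + x 1 + x 2 + x 3)) (star 2) +
    ps (x 3 + (x 0 + x 1 + x 2 + x 3)) (star 3) := by decide +kernel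

theorem readOff_spec : ∀ u0 u1 : Pm, pB u0 u1 = 1 → ∀ u2 : Pm, (pB u0 u2 = 1 ∧ pB u1 u2 = 1 ∧ u0 + u1 + u2 ≠ 0) →
    ∀ u3 : Pm, (pB u0 u3 = 1 ∧ pB u1 u3 = 1 ∧ pB u2 u3 = 1 ∧ u0 + u1 + u3 ≠ 0 ∧ u0 + u2 + u3 ≠ 0 ∧ u1 + u2 + u3 ≠ 0) →
      (∀ i j, readOff ![u0, u1, u2, u3] i = readOff ![u0, u1, u2, u3] j → i = j) ∧
      ∀ i : Fin 4, norm (fun j => lift (star i) (readOff ![u0, u1, u2, u3] j)) = ![u0, u1, u2, u3] i := by
  decide +kernel

theorem star_tri : ∀ i j k : Fin 4, i ≠ j → i ≠ k → j ≠ k → star i + star j + star k ≠ 0 := by decide +kernel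

/-- the isometries of the subsets -/
theorem exists_perm (L : Pm →+ Pm) (h : ∀ x y, pB (L x) (L y) = pB x y) : ∃ p : Perm (Fin 6), ∀ x, L x = pact p x := by
  have hinj : ∀ x, L x = 0 → x = 0 := fun x hx => pB_nondeg x fun y => by
    rw [← h, hx]
    simp [pB]
  have hp : ∀ {i j}, i ≠ j → pB (L (star i)) (L (star j)) = 1 := fun hij => (h _ _).trans (star_pB _ _ hij)
  have ht : ∀ {i j k}, i ≠ j → i ≠ k → j ≠ k → L (star i) + L (star j) + L (star k) ≠ 0 := fun h1 h2 h3 e =>
    star_tri _ _ _ h1 h2 h3 (hinj _ (by rw [map_add, map_add, e]))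
  obtain ⟨r1, r2⟩ := readOff_spec (L (star 0)) (L (star 1)) (hp (by decide)) (L (star 2))
    ⟨hp (by decide), hp (by decide), ht (by decide) (by decide) (by decide)⟩ (L (star 3))
    ⟨hp (by decide), hp (by decide), hp (by decide), ht (by decide) (by decide) (by decide),
      ht (by decide) (by decide) (by decide), ht (by decide) (by decide) (by decide)⟩
  obtain ⟨u, hu⟩ : ∃ u, u = ![L (star 0), L (star 1), L (star 2), L (star 3)] := ⟨_, rfl⟩
  rw [← hu] at r1 r2
  let p : Perm (Fin 6) := (Equiv.ofBijective (readOff u) (Finite.injective_iff_bijective.mp r1)).symm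
  refine ⟨p, fun x => ?_⟩
  have hs : ∀ i, pact p (star i) = L (star i) := by
    intro i
    rw [pact_apply, pm]
    have e : ∀ j, p⁻¹ j = readOff u j := fun _ => rfl
    simp only [e, r2 i]
    fin_cases i <;> simp [hu]
  rw [star_sum x]
  simp only [map_add, ps_map L]
  simp only [← AddEquiv.coe_toAddMonoidHom, ps_map]
  simp only [AddEquiv.coe_toAddMonoidHom, hs]

/-! ### the pair -/

/-- the coefficients of a permutation of the three nonzero vectors of the plane -/
def mco (σ : Perm (Fin 3)) : (ZMod 2 × ZMod 2) × (ZMod 2 × ZMod 2) :=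
  ((if σ 0 = 1 then 0 else 1, if σ 1 = 1 then 0 else 1), (if σ 0 = 0 then 0 else 1, if σ 1 = 0 then 0 else 1))

/-- the action on the pair -/
def mact (σ : Perm (Fin 3)) (z : W) : W :=
  (ps (mco σ).1.1 z.1 + ps (mco σ).1.2 z.2, ps (mco σ).2.1 z.1 + ps (mco σ).2.2 z.2)

theorem mact_apply1 (σ : Perm (Fin 3)) (z : W) (k : Fin 4) :
    (mact σ z).1 k = (mco σ).1.1 * z.1 k + (mco σ).1.2 * z.2 k := rfl

theorem mact_apply2 (σ : Perm (Fin 3)) (z : W) (k : Fin 4) :
    (mact σ z).2 k = (mco σ).2.1 * z.1 k + (mco σ).2.2 * z.2 k := rfl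

theorem mact_one (z : W) : mact 1 z = z := by
  have e : mco 1 = ((1, 0), (0, 1)) := by decide
  exact Prod.ext (by simp [mact, e, ps_zero, ps_one]) (by simp [mact, e, ps_zero, ps_one])

theorem mact_mul (σ τ : Perm (Fin 3)) (z : W) : mact (σ * τ) z = mact σ (mact τ z) := by
  have key : ∀ σ τ : Perm (Fin 3), ∀ x y : ZMod 2,
      (mco (σ * τ)).1.1 * x + (mco (σ * τ)).1.2 * y =
          (mco σ).1.1 * ((mco τ).1.1 * x + (mco τ).1.2 * y) + (mco σ).1.2 * ((mco τ).2.1 * x + (mco τ).2.2 * y) ∧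
        (mco (σ * τ)).2.1 * x + (mco (σ * τ)).2.2 * y =
          (mco σ).2.1 * ((mco τ).1.1 * x + (mco τ).1.2 * y) + (mco σ).2.2 * ((mco τ).2.1 * x + (mco τ).2.2 * y) := by
    decide +kernel
  exact Prod.ext (funext fun k => (key σ τ (z.1 k) (z.2 k)).1) (funext fun k => (key σ τ (z.1 k) (z.2 k)).2)

theorem mact_dact (σ : Perm (Fin 3)) (p : Perm (Fin 6)) (z : W) : dact p (mact σ z) = mact σ (dact p z) := by
  simp only [dact, mact, map_add]
  simp only [← AddEquiv.coe_toAddMonoidHom, ps_map]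

theorem mact_rot (z : W) : mact (finRotate 3) z = rW z := by
  have e : mco (finRotate 3) = ((0, 1), (1, 1)) := by decide
  exact Prod.ext (by simp [mact, e, rW, ps_zero, ps_one]) (by simp [mact, e, rW, ps_one])

theorem mact_q (σ : Perm (Fin 3)) (z : W) : qW (mact σ z) = qW z := by
  have key : ∀ σ : Perm (Fin 3), (mco σ).1.1 * (mco σ).2.2 + (mco σ).1.2 * (mco σ).2.1 = 1 := by decide
  simp only [qW, mact, pB_add_left, pB_add_right, pB_ps_left]
  simp only [pB_comm _ (ps _ _), pB_ps_left, pB_self, mul_zero, zero_add, add_zero, pB_comm z.2 z.1]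
  conv_rhs => rw [← one_mul (pB z.1 z.2), ← key σ]
  ring

theorem dact_q (p : Perm (Fin 6)) (z : W) : qW (dact p z) = qW z := pact_pB p z.1 z.2

/-- the action of a pair of permutations -/
def kact (x : Perm (Fin 3) × Perm (Fin 6)) (z : W) : W := mact x.1 (dact x.2 z)

theorem kact_eq (x : Perm (Fin 3) × Perm (Fin 6)) (z : W) : kact x z = mact x.1 (pact x.2 z.1, pact x.2 z.2) := rfl

theorem kact_mul (x y : Perm (Fin 3) × Perm (Fin 6)) (z : W) : kact (x * y) z = kact x (kact y z) := by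
  simp only [kact, Prod.fst_mul, Prod.snd_mul, mact_mul, dact_mul, mact_dact]

theorem kact_one (z : W) : kact 1 z = z := by
  simp only [kact, Prod.fst_one, Prod.snd_one, dact_one, mact_one]

theorem kact_q (x : Perm (Fin 3) × Perm (Fin 6)) (z : W) : qW (kact x z) = qW z := by
  rw [kact, mact_q, dact_q]

theorem kact_faithful {x : Perm (Fin 3) × Perm (Fin 6)} (h : ∀ z, kact x z = z) : x = 1 := by
  have key : ∀ σ : Perm (Fin 3), (mco σ).1.2 = 0 → (mco σ).2.1 = 0 → σ = 1 := by decide
  have hne : pact x.2 x0 ≠ 0 := fun e => (show x0 ≠ 0 by decide)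
    ((pact x.2).injective (e.trans (map_zero _).symm))
  obtain ⟨k, hk⟩ : ∃ k, pact x.2 x0 k = 1 := by
    by_contra hno
    push Not at hno
    refine hne (funext fun k => ?_)
    have hz : ∀ e : ZMod 2, e ≠ 1 → e = 0 := by decide
    exact hz _ (hno k)
  have e1 := congrArg (fun z : W => z.2 k) (h (x0, 0))
  have e2 := congrArg (fun z : W => z.1 k) (h (0, x0))
  simp only [kact, dact, mact_apply1, mact_apply2, map_zero, Pi.zero_apply, mul_zero, add_zero, zero_add, hk,
    mul_one] at e1 e2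
  have h1 : x.1 = 1 := key _ e2 e1
  refine Prod.ext h1 (pm_faithful_all x.2 fun i => ?_)
  have e := congrArg Prod.fst (h (Pi.single i 1, 0))
  rw [kact, h1, mact_one] at e
  exact e

theorem kact_inj {x y : Perm (Fin 3) × Perm (Fin 6)} (h : ∀ z, kact x z = kact y z) : x = y := by
  refine (inv_mul_eq_one.mp (kact_faithful fun z => ?_)).symm
  rw [kact_mul, h, ← kact_mul, inv_mul_cancel, kact_one]

/-- isometries normalising the alternating group -/
theorem normal_form (T : W ≃+ W) (hq : ∀ z, qW (T z) = qW z) (α : A6 → A6)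
    (hT : ∀ (g : A6) z, T (dact (g : Perm (Fin 6)) z) = dact (α g : Perm (Fin 6)) (T z)) :
    ∃ x : Perm (Fin 3) × Perm (Fin 6), ∀ z, T z = kact x z := by
  classical
  let Sem (L : Pm →+ Pm) : Prop := ∀ (g : A6) x, L (pact (g : Perm (Fin 6)) x) = pact (α g : Perm (Fin 6)) (L x)
  let L11 : Pm →+ Pm := AddMonoidHom.mk' (fun x => (T (x, 0)).1) fun x y => by
    show _ = ((T (x, 0) + T (y, 0)).1)
    rw [← map_add, Prod.mk_add_mk, add_zero]
  let L21 : Pm →+ Pm := AddMonoidHom.mk' (fun x => (T (x, 0)).2) fun x y => by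
    show _ = ((T (x, 0) + T (y, 0)).2)
    rw [← map_add, Prod.mk_add_mk, add_zero]
  let L12 : Pm →+ Pm := AddMonoidHom.mk' (fun x => (T (0, x)).1) fun x y => by
    show _ = ((T (0, x) + T (0, y)).1)
    rw [← map_add, Prod.mk_add_mk, add_zero]
  let L22 : Pm →+ Pm := AddMonoidHom.mk' (fun x => (T (0, x)).2) fun x y => by
    show _ = ((T (0, x) + T (0, y)).2)
    rw [← map_add, Prod.mk_add_mk, add_zero]
  have hl : ∀ (g : A6) x, dact (g : Perm (Fin 6)) (x, 0) = (pact (g : Perm (Fin 6)) x, 0) := fun g x =>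
    Prod.ext rfl (map_zero _)
  have hr : ∀ (g : A6) x, dact (g : Perm (Fin 6)) (0, x) = (0, pact (g : Perm (Fin 6)) x) := fun g x =>
    Prod.ext (map_zero _) rfl
  have s11 : Sem L11 := fun g x => by show (T (_, 0)).1 = _; rw [← hl, hT]; rfl
  have s21 : Sem L21 := fun g x => by show (T (_, 0)).2 = _; rw [← hl, hT]; rfl
  have s12 : Sem L12 := fun g x => by show (T (0, _)).1 = _; rw [← hr, hT]; rfl
  have s22 : Sem L22 := fun g x => by show (T (0, _)).2 = _; rw [← hr, hT]; rfl
  obtain ⟨R, hR, hRb⟩ : ∃ R, Sem R ∧ Function.Bijective R := by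
    have hb : ∀ {L : Pm →+ Pm}, Sem L → L x0 ≠ 0 → Function.Bijective L := fun {L} hs hne => by
      refine Finite.injective_iff_bijective.mp ((injective_iff_map_eq_zero L).mpr fun x hx => ?_)
      by_contra hx0
      exact hne (irred L (fun g y hy => by rw [hs, hy, map_zero]) hx0 hx x0)
    by_cases h1 : L11 x0 = 0
    · refine ⟨L21, s21, hb s21 fun h2 => (show x0 ≠ 0 by decide) ?_⟩
      have e : T (x0, 0) = 0 := Prod.ext h1 h2
      exact congrArg Prod.fst (T.injective (e.trans (map_zero T).symm))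
    · exact ⟨L11, s11, hb s11 h1⟩
  let Re : Pm ≃+ Pm := AddEquiv.ofBijective R hRb
  have hco : ∀ {L : Pm →+ Pm}, Sem L → ∃ e : ZMod 2, ∀ x, L x = ps e (R x) := fun {L} hs => by
    have hc : ∀ (g : A6) x, Re.symm.toAddMonoidHom.comp L (pact (g : Perm (Fin 6)) x) =
        pact (g : Perm (Fin 6)) (Re.symm.toAddMonoidHom.comp L x) := fun g x => by
      refine Re.injective ?_
      show Re (Re.symm (L _)) = R (pact _ (Re.symm (L x)))
      rw [Re.apply_symm_apply, hs, hR]
      exact congrArg _ (Re.apply_symm_apply (L x)).symm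
    rcases commutant _ hc with e | e
    · exact ⟨0, fun x => by rw [ps_zero, ← Re.apply_symm_apply (L x)]; exact (congrArg Re (e x)).trans (map_zero Re)⟩
    · exact ⟨1, fun x => by rw [ps_one, ← Re.apply_symm_apply (L x)]; exact congrArg Re (e x)⟩
  obtain ⟨a, ha⟩ := hco s11
  obtain ⟨c, hc⟩ := hco s21
  obtain ⟨b, hb⟩ := hco s12
  obtain ⟨d, hd⟩ := hco s22
  have hTz : ∀ z : W, T z = (ps a (R z.1) + ps b (R z.2), ps c (R z.1) + ps d (R z.2)) := fun z => by
    have e : z = (z.1, 0) + (0, z.2) := Prod.ext (add_zero _).symm (zero_add _).symm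
    conv_lhs => rw [e, map_add]
    exact Prod.ext (congrArg₂ (· + ·) (ha z.1) (hb z.2)) (congrArg₂ (· + ·) (hc z.1) (hd z.2))
  have hdet : ∀ x y, (a * d + b * c) * pB (R x) (R y) = pB x y := fun x y => by
    have e := hq (x, y)
    rw [hTz] at e
    simp only [qW, pB_add_left, pB_add_right, pB_ps_left] at e
    simp only [pB_comm _ (ps _ _), pB_ps_left, pB_self, mul_zero, zero_add, add_zero, pB_comm (R y) (R x)] at e
    rw [← e]
    ring
  have hd1 : a * d + b * c = 1 := by
    have hz : ∀ e : ZMod 2, e ≠ 1 → e = 0 := by decide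
    by_contra hne
    have e := hdet (star 0) (star 1)
    rw [hz _ hne, zero_mul, star_pB 0 1 (by decide)] at e
    exact zero_ne_one e
  obtain ⟨p, hp⟩ := exists_perm R fun x y => by rw [← hdet x y, hd1, one_mul]
  have hsig : ∀ a b c d : ZMod 2, a * d + b * c = 1 → ∃ σ, mco σ = ((a, b), (c, d)) := by decide
  obtain ⟨σ, hσ⟩ := hsig a b c d hd1
  refine ⟨(σ, p), fun z => ?_⟩
  rw [hTz]
  simp only [kact, mact, dact, hσ, hp]

end Cfsg.Agent.Spor.ExtraS3A6
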