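import Cfsg.Agent.Lib.Spor.ExtraS3A6.Decomp.Alpha
import Cfsg.Agent.Lib.Spor.ExtraS3A6.Decomp.Model

/-!
A faithful orthogonal action of `3 × A₆` on a space of order 256: the two possibilities.
-/

set_option autoImplicit false
set_option linter.unusedSectionVars false

namespace Cfsg.Agent.Spor.ExtraS3A6

universe u

/-- the data -/
structure Rep {V : Type u} [AddCommGroup V] (S : Space V) where
  act : A6 → V ≃+ V
  r : V ≃+ V
  act_mul : ∀ g h x, act (g * h) x = act g (act h x)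
  faithful : ∀ g, (∀ x, act g x = x) → g = 1
  iso : ∀ g, S.IsIso (act g)
  ir : S.IsIso r
  r3 : ∀ x, r (r (r x)) = x
  rne : ∃ x, r x ≠ x
  comm : ∀ g x, r (act g x) = act g (r x)

namespace Rep

variable {V : Type u} [AddCommGroup V] {S : Space V} (D : Rep S)
include D

theorem act_one (x : V) : D.act 1 x = x := by
  refine (D.act 1).injective ?_
  rw [← D.act_mul, one_mul]

theorem act_of_eq {g : A6} (h : g = 1) (x : V) : D.act g x = x := h ▸ D.act_one x

theorem moves {g h : A6} (hne : g * h ≠ h * g) : ∃ x, D.act g (D.act h x) ≠ D.act h (D.act g x) := by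
  by_contra hno
  push Not at hno
  refine hne (inv_mul_eq_one.mp (D.faithful ((g * h)⁻¹ * (h * g)) fun x => ?_))
  rw [D.act_mul, D.act_mul h g, ← hno, ← D.act_mul g h, ← D.act_mul, inv_mul_cancel, D.act_one]

/-- the operators of a generating system -/
def ops (G : Gens) : Ops S where
  a := D.act G.a
  b := D.act G.b
  c := D.act G.c
  t := D.act G.t
  k := D.act G.k
  r := D.r
  ia := D.iso _
  ib := D.iso _
  ic := D.iso _
  it := D.iso _
  ik := D.iso _
  ir := D.ir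
  a3 x := by simp only [← D.act_mul, ← mul_assoc, D.act_of_eq G.a3]
  b3 x := by simp only [← D.act_mul, ← mul_assoc, D.act_of_eq G.b3]
  c3 x := by simp only [← D.act_mul, ← mul_assoc, D.act_of_eq G.c3]
  r3 := D.r3
  t4 x := by simp only [← D.act_mul, ← mul_assoc, D.act_of_eq G.t4]
  ab x := by simp only [← D.act_mul, G.ab]
  ta x := by simp only [← D.act_mul, G.ta]
  tb x := by simp only [← D.act_mul, G.tb, mul_assoc]
  ka x := by simp only [← D.act_mul, G.ka]
  vc x := by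
    simp only [← D.act_mul]
    rw [show G.c * (G.b * (G.b * (G.t * (G.t * G.c)))) = G.c * (G.b * G.b * (G.t * G.t)) * G.c by group, G.vc]
    simp only [mul_assoc]
  ac x := by simp only [← D.act_mul]; exact D.act_of_eq (by simpa only [mul_assoc] using G.ac) x
  bc x := by simp only [← D.act_mul]; exact D.act_of_eq (by simpa only [mul_assoc] using G.bc) x
  ct x := by simp only [← D.act_mul]; exact D.act_of_eq (by simpa only [mul_assoc] using G.ct) x
  ane := by
    by_contra hno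
    push Not at hno
    exact G.ane (D.faithful _ hno)
  acne := D.moves G.acne
  bcne := D.moves G.bcne
  ra := D.comm _
  rb := D.comm _
  rc := D.comm _
  rt := D.comm _
  rk := D.comm _
  rne := D.rne

theorem ops2_a (x : V) : (D.ops gens2).a x = (D.ops gens1).a ((D.ops gens1).b x) := by
  show D.act gens2.a x = _
  rw [gens2_a, D.act_mul]
  rfl

theorem ops2_b (x : V) : (D.ops gens2).b x = (D.ops gens1).a ((D.ops gens1).b ((D.ops gens1).b x)) := by
  show D.act gens2.b x = _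
  rw [gens2_b, D.act_mul, D.act_mul]
  rfl

/-- one of the two systems is split -/
theorem split_or [Finite V] : (D.ops gens1).Split ∨ (D.ops gens2).Split := by
  classical
  obtain ⟨O, hO⟩ : ∃ O, O = D.ops gens1 := ⟨_, rfl⟩
  have hA2 : ∀ x, (D.ops gens2).a x = O.a (O.b x) := hO ▸ D.ops2_a
  have hB2 : ∀ x, (D.ops gens2).b x = O.a (O.b (O.b x)) := hO ▸ D.ops2_b
  rw [← hO]
  have hat : ∀ x, O.a (O.t x) = O.t (O.b (O.b x)) := fun x => by rw [O.tb, O.tb, O.a3]
  have hbt : ∀ x, O.b (O.t x) = O.t (O.a x) := fun x => (O.ta x).symm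
  by_cases hX : ∀ x ∈ O.Pa, O.b x = x → x = 0
  · right
    intro x hx
    have hx' : x + O.a (O.b x) + O.a (O.b (O.a (O.b x))) = 0 := by
      have e := (D.ops gens2).mem_Pa.mp hx
      rwa [Space.N_apply, hA2, hA2] at e
    rw [hB2]
    let d : V ≃+ V := O.b.trans O.a
    let e : V ≃+ V := (O.b.trans O.b).trans O.a
    have hd : ∀ z, d z = O.a (O.b z) := fun _ => rfl
    have he : ∀ z, e z = O.a (O.b (O.b z)) := fun _ => rfl
    have d3 : ∀ z, d (d (d z)) = z := fun z => by simp only [hd, ← O.ab, O.b3, O.a3]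
    have e3 : ∀ z, e (e (e z)) = z := fun z => by simp only [he, ← O.ab, O.b3, O.a3]
    have hde : ∀ z, d (e z) = e (d z) := fun z => by simp only [hd, he, ← O.ab]
    have hNd : S.N d x = 0 := by rw [Space.N_apply, hd, hd]; exact hx'
    obtain ⟨y, hy⟩ : ∃ y, y = x + S.N e x := ⟨_, rfl⟩
    suffices hy0 : y = 0 by
      have h1 : x = S.N e x := S.eq_of_add (hy ▸ hy0)
      rw [← he, h1]
      exact S.fix_N e3 x
    have hey : S.N e y = 0 := hy ▸ S.N_moved_part e3 x
    have hdy : S.N d y = 0 := by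
      rw [hy, map_add, hNd, show S.N d (S.N e x) = S.N e (S.N d x) by
        simp only [Space.N_apply, map_add, hde]; abel, hNd, map_zero, add_zero]
    have hS : S.N O.a (S.N O.b y) = 0 := by
      have e1 : S.N O.a (S.N O.b y) = S.N d (S.N e y) := by
        simp only [Space.N_apply, hd, he, map_add, ← O.ab, O.b3, O.a3]
        abel
      rw [e1, hey, map_zero]
    have hsum : y = S.N O.a y + S.N O.b y := by
      have e1 : y + S.N O.a y + S.N O.b y + S.N d y + S.N e y + S.N O.a (S.N O.b y) = 0 := by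
        have h2 : ∀ (n : ℕ) (z : V), (2 * n) • z = 0 := fun n z => by
          rw [mul_comm, mul_nsmul', two_nsmul, S.self_add, nsmul_zero]
        simp only [Space.N_apply, hd, he, map_add, ← O.ab, O.b3, O.a3]
        abel_nf
        have h6 : ∀ z : V, (6 : ℤ) • z = 0 := fun z => by
          rw [show (6 : ℤ) = ((2 * 3 : ℕ) : ℤ) from rfl, natCast_zsmul]; exact h2 3 z
        simp only [h6, two_zsmul, S.self_add, add_zero]
      rw [hdy, hey, hS, add_zero, add_zero, add_zero, add_assoc] at e1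
      exact S.eq_of_add e1
    have hb0 : S.N O.b y = 0 := hX _ (O.mem_Pa.mpr hS) (S.fix_N O.b3 y)
    rw [hb0, add_zero] at hsum
    have ha : O.a y = y := by
      conv_lhs => rw [hsum]
      rw [S.fix_N O.a3, ← hsum]
    have ht : O.t y = 0 := by
      refine hX _ ?_ (by rw [hbt, ha])
      rw [O.mem_Pa, show S.N O.a (O.t y) = O.t (S.N O.b y) by
        simp only [Space.N_apply, map_add, hat, O.b3]; abel, hb0, map_zero]
    exact O.t.injective (ht.trans (map_zero _).symm)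
  left
  push Not at hX
  obtain ⟨x1, hx1, hx1b, hx10⟩ := hX
  by_contra hns
  obtain ⟨w, hw, hwb⟩ : ∃ w ∈ O.Pa, O.b w ≠ w := by
    by_contra hno
    push Not at hno
    exact hns hno
  let X : AddSubgroup V :=
    { carrier := {x | x ∈ O.Pa ∧ O.b x = x}
      add_mem' := fun ha hb => ⟨O.Pa.add_mem ha.1 hb.1, by rw [map_add, ha.2, hb.2]⟩
      zero_mem' := ⟨O.Pa.zero_mem, map_zero _⟩
      neg_mem' := fun ha => ⟨O.Pa.neg_mem ha.1, by rw [map_neg, ha.2]⟩ }
  let Y : AddSubgroup V :=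
    { carrier := {x | x ∈ O.Pa ∧ O.b x = O.a (O.a x)}
      add_mem' := fun ha hb => ⟨O.Pa.add_mem ha.1 hb.1, by rw [map_add, ha.2, hb.2, map_add, map_add]⟩
      zero_mem' := ⟨O.Pa.zero_mem, by rw [map_zero, map_zero, map_zero]⟩
      neg_mem' := fun ha => ⟨O.Pa.neg_mem ha.1, by rw [map_neg, ha.2, map_neg, map_neg]⟩ }
  -- the image of the second kind under the element of order four
  have hZ : ∀ {z}, z ∈ Y → O.t z ∈ O.Pa ∧ O.b (O.t z) = O.a (O.t z) := by
    intro z hz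
    have hbb : O.b (O.b z) = O.a z := by
      rw [hz.2, ← O.ab, ← O.ab, hz.2, O.a3]
    refine ⟨?_, by rw [hbt, hat, hbb]⟩
    rw [O.mem_Pa, Space.N_apply, hat, hat, ← map_add, ← map_add, hbb, show O.b (O.b (O.a z)) = O.a (O.b (O.b z)) by
      rw [O.ab, O.ab], hbb]
    exact (congrArg O.t (O.mem_Pa.mp hz.1)).trans (map_zero _)
  have hZt : ∀ {z}, z ∈ O.Pa → O.b z = O.a z → O.t z ∈ Y := by
    intro z hz hzb
    have hbb : O.b (O.b z) = O.a (O.a z) := by rw [hzb, ← O.ab, hzb]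
    refine ⟨?_, ?_⟩
    · rw [O.mem_Pa, Space.N_apply, hat, hat, ← map_add, ← map_add, hbb, show O.b (O.b (O.a (O.a z))) =
        O.a (O.a (O.b (O.b z))) by rw [← O.ab, ← O.ab, ← O.ab, ← O.ab], hbb, O.a3]
      rw [show z + O.a (O.a z) + O.a z = z + O.a z + O.a (O.a z) by abel]
      exact (congrArg O.t (O.mem_Pa.mp hz)).trans (map_zero _)
    · rw [hbt, hat, hbb, hat, show O.b (O.b (O.a (O.a z))) = O.a (O.a (O.b (O.b z))) by
        rw [← O.ab, ← O.ab, ← O.ab, ← O.ab], hbb, O.a3]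
  obtain ⟨y1, hy1, hy10⟩ : ∃ y ∈ Y, y ≠ 0 := by
    obtain ⟨v, hv⟩ : ∃ v, v = w + S.N O.b w := ⟨_, rfl⟩
    have hvb : S.N O.b v = 0 := hv ▸ S.N_moved_part O.b3 w
    have hNw : S.N O.b w ∈ O.Pa := by
      rw [O.mem_Pa, show S.N O.a (S.N O.b w) = S.N O.b (S.N O.a w) by
        simp only [Space.N_apply, map_add, O.ab]; abel, O.mem_Pa.mp hw, map_zero]
    have hvP : v ∈ O.Pa := hv ▸ O.Pa.add_mem hw hNw
    have hv0 : v ≠ 0 := fun e => hwb (by
      have h1 : w = S.N O.b w := S.eq_of_add (hv ▸ e)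
      rw [h1]
      exact S.fix_N O.b3 w)
    have hbP : O.b v ∈ O.Pa := by
      rw [O.mem_Pa, S.N_comm O.ab, O.mem_Pa.mp hvP, map_zero]
    by_cases hu : O.a v + O.b v = 0
    · exact ⟨O.t v, hZt hvP (S.eq_of_add hu).symm, fun e => hv0 (O.t.injective (e.trans (map_zero _).symm))⟩
    · refine ⟨_, ⟨O.Pa.add_mem (O.Pa_a hvP) hbP, S.eq_of_add ?_⟩, hu⟩
      rw [map_add, map_add, map_add, O.a3, ← O.ab, S.rot hvb]
      calc O.a (O.b v) + (v + O.b v) + (v + O.a (O.a (O.b v)))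
          = (O.b v + O.a (O.b v) + O.a (O.a (O.b v))) + (v + v) := by abel
        _ = 0 := by rw [← Space.N_apply, O.mem_Pa.mp hbP, S.self_add, add_zero]
  have hXa : ∀ z ∈ X, O.a z ∈ X := fun z hz => ⟨O.Pa_a hz.1, by rw [← O.ab, hz.2]⟩
  have hYa : ∀ z ∈ Y, O.a z ∈ Y := fun z hz => ⟨O.Pa_a hz.1, by rw [← O.ab, hz.2]⟩
  have cX := S.four_or_more O.a3 X hXa (fun z hz => O.mem_Pa.mp hz.1) (show x1 ∈ X from ⟨hx1, hx1b⟩) hx10
  have cY := S.four_or_more O.a3 Y hYa (fun z hz => O.mem_Pa.mp hz.1) hy1 hy10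
  let Ψ : ↥X × ↥X × ↥Y × ↥Y → V := fun p => (p.1 : V) + O.t (p.2.1 : V) + (p.2.2.1 : V) + O.t (p.2.2.2 : V)
  have hΨ : Function.Injective Ψ := by
    let d : V ≃+ V := O.b.trans O.a
    have hd : ∀ z, d z = O.a (O.b z) := fun _ => rfl
    have kb : ∀ {x x' y y'}, x ∈ X → x' ∈ X → y ∈ Y → y' ∈ Y →
        S.N O.b (x + O.t x' + y + O.t y') = x ∧ S.N O.a (x + O.t x' + y + O.t y') = O.t x' ∧
          S.N d (x + O.t x' + y + O.t y') = y := by
      intro x x' y y' hx hx' hy hy'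
      have n1 : S.N O.b (O.t x') = 0 := by rw [O.N_b, O.mem_Pa.mp hx'.1, map_zero]
      have n2 : O.a (O.t x') = O.t x' := by rw [hat, hx'.2, hx'.2]
      have n3 : S.N O.b y = 0 := by
        rw [Space.N_apply, hy.2, ← O.ab, ← O.ab, hy.2, O.a3, show y + O.a (O.a y) + O.a y = y + O.a y + O.a (O.a y) by abel]
        exact O.mem_Pa.mp hy.1
      obtain ⟨n4, n5⟩ := hZ hy'
      have n6 : S.N O.b (O.t y') = 0 := by
        rw [Space.N_apply, n5, ← O.ab, n5]
        exact O.mem_Pa.mp n4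
      refine ⟨?_, ?_, ?_⟩
      · rw [map_add, map_add, map_add, S.N_of_fixed hx.2, n1, n3, n6, add_zero, add_zero, add_zero]
      · rw [map_add, map_add, map_add, O.mem_Pa.mp hx.1, S.N_of_fixed n2, O.mem_Pa.mp hy.1, O.mem_Pa.mp n4,
          zero_add, add_zero, add_zero]
      · have m1 : S.N d x = 0 := by
          rw [Space.N_apply, hd, hd, hx.2, ← O.ab, hx.2]
          exact O.mem_Pa.mp hx.1
        have m2 : S.N d (O.t x') = 0 := by
          simp only [Space.N_apply, hd, O.ab, n2]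
          exact n1
        have m3 : d y = y := by rw [hd, hy.2, O.a3]
        have m4 : S.N d (O.t y') = 0 := by
          have e2 : d (O.t y') = O.a (O.a (O.t y')) := by rw [hd, n5]
          rw [Space.N_apply, e2, show d (O.a (O.a (O.t y'))) = O.a (O.a (d (O.t y'))) by
            simp only [hd, ← O.ab], e2, O.a3, add_right_comm]
          exact O.mem_Pa.mp n4
        rw [map_add, map_add, map_add, m1, m2, S.N_of_fixed m3, m4, zero_add, zero_add, add_zero]
    rintro ⟨⟨x, hx⟩, ⟨x', hx'⟩, ⟨y, hy⟩, ⟨y', hy'⟩⟩ ⟨⟨u, hu⟩, ⟨u', hu'⟩, ⟨v, hv⟩, ⟨v', hv'⟩⟩ e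
    have e' : x + O.t x' + y + O.t y' = u + O.t u' + v + O.t v' := e
    obtain ⟨f1, f2, f3⟩ := kb hx hx' hy hy'
    obtain ⟨g1, g2, g3⟩ := kb hu hu' hv hv'
    rw [e'] at f1 f2 f3
    have a1 := f1.symm.trans g1
    have a2 := O.t.injective (f2.symm.trans g2)
    have a3 := f3.symm.trans g3
    subst a1 a2 a3
    exact Prod.ext rfl (Prod.ext rfl (Prod.ext rfl (Subtype.ext (O.t.injective (add_left_cancel e')))))
  have hle := Nat.card_le_card_of_injective _ hΨ
  rw [Nat.card_prod, Nat.card_prod, Nat.card_prod, S.card] at hle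
  have hX4 : (∀ z ∈ X, z = 0 ∨ z = x1 ∨ z = O.a x1 ∨ z = O.a (O.a x1)) ∧ Nat.card X = 4 := by
    refine cX.resolve_right fun h16 => ?_
    have hY4 : 4 ≤ Nat.card Y := by rcases cY with ⟨-, e⟩ | e <;> omega
    have := Nat.mul_le_mul h16 (Nat.mul_le_mul h16 (Nat.mul_le_mul hY4 hY4))
    omega
  have hY4 : (∀ z ∈ Y, z = 0 ∨ z = y1 ∨ z = O.a y1 ∨ z = O.a (O.a y1)) ∧ Nat.card Y = 4 := by
    refine cY.resolve_right fun h16 => ?_
    rw [hX4.2] at hle
    have := Nat.mul_le_mul h16 h16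
    omega
  have hrX : ∀ z ∈ X, O.r z = z :=
    S.trivial_on_four O.a3 O.r3 (s := O.t.trans O.t) (show x1 ∈ X from ⟨hx1, hx1b⟩) hx10 (O.mem_Pa.mp hx1) hX4.1
      (fun z hz => ⟨O.Pa_r hz.1, by rw [← O.rb, hz.2]⟩)
      (fun z hz => ⟨O.Pa_tt hz.1, by
        show O.b (O.t (O.t z)) = O.t (O.t z)
        rw [hbt, hat, hz.2, hz.2]⟩) O.ra O.rtt O.tta
  have hrY : ∀ z ∈ Y, O.r z = z :=
    S.trivial_on_four O.a3 O.r3 (s := O.t.trans O.t) hy1 hy10 (O.mem_Pa.mp hy1.1) hY4.1
      (fun z hz => ⟨O.Pa_r hz.1, by rw [← O.rb, hz.2, O.ra, O.ra]⟩)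
      (fun z hz => hZt (hZ hz).1 (hZ hz).2) O.ra O.rtt O.tta
  obtain ⟨v, hv⟩ := O.rne
  refine hv ?_
  obtain ⟨⟨x, x', y, y'⟩, rfl⟩ := ((Nat.bijective_iff_injective_and_card Ψ).mpr ⟨hΨ, by
    rw [Nat.card_prod, Nat.card_prod, Nat.card_prod, hX4.2, hY4.2, S.card]⟩).2 v
  simp only [Ψ, map_add, O.rt, hrX _ x.2, hrX _ x'.2, hrY _ y.2, hrY _ y'.2]

/-- a property of three generators which is inherited by products -/
theorem gen_induct (G : Gens) (p : A6 → Prop) (h1 : p 1) (hmul : ∀ g h, p g → p h → p (g * h)) (ha : p G.a)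
    (hb : p G.b) (hc : p G.c) (g : A6) : p g := by
  have hfin : g ∈ Subgroup.closure ({G.a, G.b, G.c} : Set A6) := G.gen ▸ Subgroup.mem_top g
  rw [← Subgroup.mem_toSubmonoid, Subgroup.closure_toSubmonoid_of_finite] at hfin
  refine Submonoid.closure_induction (fun x hx => ?_) h1 (fun x y _ _ hx hy => hmul x y hx hy) hfin
  rcases hx with rfl | rfl | rfl
  exacts [ha, hb, hc]

/-- the two possibilities -/
theorem classify [Finite V] :
    (∃ n, S.q n = 1 ∧ D.r n = n ∧ (∀ g, D.act g n = n) ∧ Nat.card (S.N D.r).range = 64) ∨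
      ((∀ x, S.N D.r x = 0) ∧ ∃ (e : V ≃+ W) (φ : A6 ≃* A6), (∀ x, qW (e x) = S.q x) ∧
        (∀ x, e (D.r x) = rW (e x)) ∧ ∀ g x, e (D.act g x) = dact (φ g : Equiv.Perm (Fin 6)) (e x)) := by
  classical
  obtain ⟨G, hG⟩ : ∃ G, (D.ops G).Split := by
    rcases D.split_or with h | h
    exacts [⟨_, h⟩, ⟨_, h⟩]
  rcases (D.ops G).card_Pa hG with ⟨-, h4⟩ | h16
  · left
    obtain ⟨n, hq, hr, ha, hb, hc, h64, -⟩ := (D.ops G).beta hG h4
    exact ⟨n, hq, hr, gen_induct D G (fun g => D.act g n = n) (D.act_one n)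
      (fun g h e1 e2 => by rw [D.act_mul, e2, e1]) ha hb hc, h64⟩
  · right
    refine ⟨(D.ops G).fpf hG h16, ?_⟩
    obtain ⟨e, hq, hr, ha, hb, hc⟩ := (D.ops G).alpha hG h16
    have hex : ∀ g, ∃ h : A6, ∀ x, e (D.act g x) = dact (h : Equiv.Perm (Fin 6)) (e x) := by
      refine gen_induct D G _ ⟨1, fun x => by rw [D.act_one, Subgroup.coe_one, dact_one]⟩ ?_ ⟨_, ha⟩ ⟨_, hb⟩ ⟨_, hc⟩
      rintro g g' ⟨h, hh⟩ ⟨h', hh'⟩
      exact ⟨h * h', fun x => by rw [D.act_mul, hh, hh', Subgroup.coe_mul, dact_mul]⟩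
    choose φ hφ using hex
    have hinj : Function.Injective φ := fun g g' he => by
      refine (inv_mul_eq_one.mp (D.faithful (g'⁻¹ * g) fun x => ?_)).symm
      have h1 : D.act g x = D.act g' x := e.injective (by rw [hφ, hφ, he])
      rw [D.act_mul, h1, ← D.act_mul, inv_mul_cancel, D.act_one]
    have hmul : ∀ g g', φ (g * g') = φ g * φ g' := fun g g' => by
      refine (inv_mul_eq_one.mp (dact_faithful ((φ g * φ g')⁻¹ * φ (g * g')) fun z => ?_)).symm
      obtain ⟨x, rfl⟩ := e.surjective z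
      rw [Subgroup.coe_mul, dact_mul, ← hφ, D.act_mul, hφ, hφ, ← dact_mul (φ g : Equiv.Perm (Fin 6)), ← dact_mul,
        ← Subgroup.coe_mul, ← Subgroup.coe_mul, inv_mul_cancel, Subgroup.coe_one, dact_one]
    exact ⟨e, MulEquiv.ofBijective (MonoidHom.mk' φ hmul) (Finite.injective_iff_bijective.mp hinj), hq, hr,
      fun g x => hφ g x⟩

end Rep

end Cfsg.Agent.Spor.ExtraS3A6
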