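import Cfsg.Agent.Lib.Spor.ExtraS3A6.Kind
import Cfsg.Agent.Lib.Spor.ExtraS3A6.Decomp.Main

/-!
The two cases for the action of the quotient on `Q / Z(Q)`: coordinates on two copies of the even subsets, or a
fixed vector.
-/

set_option autoImplicit false
set_option linter.style.haveILetI false
set_option linter.unusedSectionVars false

namespace Cfsg.Agent.Spor.XS

open ExtraS3A6 (A6 Pm W pB qW rW dact mact kact)

universe u

variable {G : Type u} [Group G] {K : Subgroup P36} (hK : Kind K) (H : Hyp G ↥K)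

/-- the space written additively -/
noncomputable def Hyp.addSpace : ExtraS3A6.Space (Additive H.Vq) where
  q v := H.qv v.toMul
  card := (Nat.card_congr (Additive.toMul (α := H.Vq))).trans H.sp.card
  self_add v := H.sp.sq v.toMul
  biadd x y z := by
    have e : ∀ a b c : H.Vq, H.bf (a * b) c = H.bf a c + H.bf b c := fun a b c => by
      rw [show H.bf (a * b) c = H.bf c (a * b) from H.sp.symm _ _, show H.bf c (a * b) = H.bf c a + H.bf c b from
        H.sp.mul_right c a b, show H.bf c a = H.bf a c from H.sp.symm _ _, show H.bf c b = H.bf b c from H.sp.symm _ _]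
    show H.qv (x.toMul * y.toMul * z.toMul) + H.qv (x.toMul * y.toMul) + H.qv z.toMul =
      H.qv (x.toMul * z.toMul) + H.qv x.toMul + H.qv z.toMul +
        (H.qv (y.toMul * z.toMul) + H.qv y.toMul + H.qv z.toMul)
    rw [H.qv_mul (x.toMul * y.toMul), e, H.qv_mul x.toMul z.toMul, H.qv_mul y.toMul z.toMul]
    generalize H.qv (x.toMul * y.toMul) = p, H.qv x.toMul = a, H.qv y.toMul = b, H.qv z.toMul = c,
      H.bf x.toMul z.toMul = s, H.bf y.toMul z.toMul = t
    revert p a b c s t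
    decide
  nondeg x hx := by
    by_contra hno
    push Not at hno
    refine hx ?_
    show Additive.ofMul x.toMul = Additive.ofMul 1
    refine congrArg Additive.ofMul (H.sp.nondeg x.toMul fun w => ?_)
    show H.bf x.toMul w = 0
    have h := hno (Additive.ofMul w)
    have h1 : H.qv (x.toMul * w) + H.qv x.toMul + H.qv w ≠ 1 := h
    rw [H.qv_mul] at h1
    revert h1
    generalize H.qv x.toMul = a, H.qv w = b, H.bf x.toMul w = c
    revert a b c
    decide

theorem Hyp.addSpace_q (v : H.Vq) : H.addSpace.q (Additive.ofMul v) = H.qv v := rfl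

/-- the action written additively -/
noncomputable def Hyp.gamAdd (γ : ↥K) : Additive H.Vq ≃+ Additive H.Vq where
  toFun v := Additive.ofMul (H.gam γ v.toMul)
  invFun v := Additive.ofMul (H.gam γ⁻¹ v.toMul)
  left_inv v := by
    show Additive.ofMul (H.gam γ⁻¹ (H.gam γ v.toMul)) = v
    rw [← H.gam_mul, inv_mul_cancel, H.gam_one]
    rfl
  right_inv v := by
    show Additive.ofMul (H.gam γ (H.gam γ⁻¹ v.toMul)) = v
    rw [← H.gam_mul, mul_inv_cancel, H.gam_one]
    rfl
  map_add' v w := congrArg Additive.ofMul (map_mul (H.gam γ) v.toMul w.toMul)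

theorem Hyp.gamAdd_mul (γ δ : ↥K) (v : Additive H.Vq) : H.gamAdd (γ * δ) v = H.gamAdd γ (H.gamAdd δ v) :=
  congrArg Additive.ofMul (H.gam_mul γ δ v.toMul)

theorem Hyp.gamAdd_faithful {γ : ↥K} (h : ∀ v, H.gamAdd γ v = v) : γ = 1 :=
  H.gam_faithful fun v => congrArg Additive.toMul (h (Additive.ofMul v))

/-- the data of the decomposition -/
noncomputable def Hyp.rep : ExtraS3A6.Rep H.addSpace where
  act g := H.gamAdd (altK hK g)
  r := H.gamAdd (tauK hK)
  act_mul g h x := by rw [map_mul, H.gamAdd_mul]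
  faithful g h := altK_injective hK ((H.gamAdd_faithful h).trans (map_one _).symm)
  iso g x := H.gam_qv _ x.toMul
  ir x := H.gam_qv _ x.toMul
  r3 x := by
    rw [← H.gamAdd_mul, ← H.gamAdd_mul, ← pow_two, ← pow_succ, tauK_cube hK]
    exact congrArg Additive.ofMul (H.gam_one x.toMul)
  rne := by
    by_contra hno
    push Not at hno
    exact tauK_ne hK (H.gamAdd_faithful hno)
  comm g x := by rw [← H.gamAdd_mul, ← H.gamAdd_mul, (tauK_comm hK g).eq]

theorem kind_A3 : ∀ σ : Equiv.Perm (Fin 3), Equiv.Perm.sign σ = 1 →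
    σ = 1 ∨ σ = finRotate 3 ∨ σ = finRotate 3 * finRotate 3 := by decide +kernel

theorem kind_inverts : ∀ σ : Equiv.Perm (Fin 3), Equiv.Perm.sign σ = -1 →
    σ * finRotate 3 = finRotate 3 * finRotate 3 * σ := by decide +kernel

theorem kind_sign : ∀ σ : Equiv.Perm (Fin 3), σ * finRotate 3 = finRotate 3 * finRotate 3 * σ →
    Equiv.Perm.sign σ = -1 := by decide +kernel

/-- every element of the quotient normalises the second factor -/
def conjAlt (γ : ↥K) (p : A6) : A6 :=
  ⟨(γ : P36).2 * p * ((γ : P36).2)⁻¹,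
    Equiv.Perm.mem_alternatingGroup.2 (by
      simp only [map_mul, map_inv, Equiv.Perm.mem_alternatingGroup.1 p.2, mul_one, mul_inv_cancel])⟩

theorem mul_altK (γ : ↥K) (p : A6) : γ * altK hK p = altK hK (conjAlt γ p) * γ := by
  refine Subtype.ext (Prod.ext ?_ ?_)
  · show (γ : P36).1 * 1 = 1 * (γ : P36).1
    rw [mul_one, one_mul]
  · show (γ : P36).2 * (p : Equiv.Perm (Fin 6)) = (γ : P36).2 * p * ((γ : P36).2)⁻¹ * (γ : P36).2
    rw [inv_mul_cancel_right]

/-- without fixed points: the whole quotient in coordinates -/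
theorem Hyp.alpha_coords (hfpf : ∀ v, H.gam (tauK hK) v = v → v = 1) :
    ∃ (K' : Subgroup P36) (_ : Kind K') (ν : ↥K ≃* ↥K') (e : H.Vq → Pm × Pm),
      Function.Bijective e ∧ (∀ v w, e (v * w) = e v + e w) ∧ (∀ v, H.qv v = pB (e v).1 (e v).2) ∧
        ∀ γ v, e (H.gam γ v) = kact ((ν γ : ↥K') : P36) (e v) := by
  classical
  haveI : Finite (Additive H.Vq) :=
    Nat.finite_of_card_ne_zero (show Nat.card (Additive H.Vq) ≠ 0 by rw [H.addSpace.card]; norm_num)
  rcases (H.rep hK).classify with ⟨n, hq, hr, -, -⟩ | ⟨-, e, φ, hq, her, hea⟩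
  · exfalso
    have h1 : n.toMul = 1 := hfpf n.toMul (congrArg Additive.toMul hr)
    rw [show n = 0 from congrArg Additive.ofMul h1, H.addSpace.q_zero] at hq
    exact zero_ne_one hq
  have hex : ∀ γ : ↥K, ∃ x : P36, ∀ v, e (H.gamAdd γ v) = kact x (e v) := by
    intro γ
    obtain ⟨x, hx⟩ := ExtraS3A6.normal_form ((e.symm.trans (H.gamAdd γ)).trans e)
      (fun z => by
        show qW (e (H.gamAdd γ (e.symm z))) = qW z
        rw [hq, show H.addSpace.q (H.gamAdd γ (e.symm z)) = H.addSpace.q (e.symm z) from H.gam_qv _ _, ← hq,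
          e.apply_symm_apply])
      (fun g => φ (conjAlt γ (φ.symm g))) fun g z => by
        show e (H.gamAdd γ (e.symm (dact _ z))) = dact _ (e (H.gamAdd γ (e.symm z)))
        have h1 : e.symm (dact (g : Equiv.Perm (Fin 6)) z) = H.gamAdd (altK hK (φ.symm g)) (e.symm z) :=
          e.injective (by
            rw [e.apply_symm_apply]
            exact ((hea (φ.symm g) (e.symm z)).trans (by rw [φ.apply_symm_apply, e.apply_symm_apply])).symm)
        rw [h1, ← H.gamAdd_mul, mul_altK, H.gamAdd_mul]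
        exact hea _ _
    exact ⟨x, fun v => by simpa using hx (e v)⟩
  choose ν₀ hν₀ using hex
  have huniq : ∀ {γ x}, (∀ v, e (H.gamAdd γ v) = kact x (e v)) → ν₀ γ = x := fun {γ x} h =>
    ExtraS3A6.kact_inj fun z => by
      obtain ⟨v, rfl⟩ := e.surjective z
      rw [← hν₀, h]
  let νh : ↥K →* P36 := MonoidHom.mk' ν₀ fun γ δ => huniq fun v => by
    rw [H.gamAdd_mul, hν₀, hν₀, ExtraS3A6.kact_mul]
  have hinj : Function.Injective νh := (injective_iff_map_eq_one νh).2 fun γ h => H.gamAdd_faithful fun v =>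
    e.injective (by rw [hν₀, show ν₀ γ = 1 from h, ExtraS3A6.kact_one])
  have hνA : ∀ p, νh (altK hK p) = (1, (φ p : Equiv.Perm (Fin 6))) := fun p => huniq fun v => by
    rw [kact, ExtraS3A6.mact_one]
    exact hea p v
  have hνT : νh (tauK hK) = (finRotate 3, 1) := huniq fun v => by
    rw [kact, ExtraS3A6.dact_one, ExtraS3A6.mact_rot]
    exact her v
  have hK' : Kind νh.range := by
    constructor
    · intro x h1 h2
      have hA : ((1 : Equiv.Perm (Fin 3)), x.2) ∈ νh.range :=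
        ⟨altK hK (φ.symm ⟨x.2, Equiv.Perm.mem_alternatingGroup.2 h2⟩), by rw [hνA, φ.apply_symm_apply]⟩
      have hT : ((finRotate 3 : Equiv.Perm (Fin 3)), (1 : Equiv.Perm (Fin 6))) ∈ νh.range := ⟨_, hνT⟩
      have hx : x = (x.1, 1) * (1, x.2) := Prod.ext (mul_one _).symm (one_mul _).symm
      rw [hx]
      refine νh.range.mul_mem ?_ hA
      rcases kind_A3 x.1 h1 with e | e | e <;> rw [e]
      · exact νh.range.one_mem
      · exact hT
      · have := νh.range.mul_mem hT hT
        rwa [Prod.mk_mul_mk, one_mul] at this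
    · obtain ⟨x, hx, hs⟩ := hK.odd
      refine ⟨νh ⟨x, hx⟩, ⟨_, rfl⟩, kind_sign _ ?_⟩
      have hrel : (⟨x, hx⟩ : ↥K) * tauK hK = tauK hK * tauK hK * ⟨x, hx⟩ :=
        Subtype.ext (Prod.ext (kind_inverts _ hs) (by
          show x.2 * 1 = 1 * 1 * x.2
          simp))
      have := congrArg (fun y => (νh y).1) hrel
      simpa only [map_mul, hνT, Prod.fst_mul] using this
  refine ⟨νh.range, hK', MonoidHom.ofInjective hinj, fun v => e (Additive.ofMul v),
    e.bijective.comp Additive.ofMul.bijective, fun v w => map_add e (Additive.ofMul v) (Additive.ofMul w),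
    fun v => (hq (Additive.ofMul v)).symm, fun γ v => ?_⟩
  exact hν₀ γ (Additive.ofMul v)

/-- with fixed points: a vector fixed by the quotient, and sixty-four fixed by the three-cycle -/
theorem Hyp.beta_fixed (hfix : ∃ v : H.Vq, v ≠ 1 ∧ H.gam (tauK hK) v = v) :
    ∃ n : H.Vq, n ≠ 1 ∧ (∀ γ, H.gam γ n = n) ∧ Nat.card {v : H.Vq // H.gam (tauK hK) v = v} = 64 := by
  classical
  haveI : Finite (Additive H.Vq) :=
    Nat.finite_of_card_ne_zero (show Nat.card (Additive H.Vq) ≠ 0 by rw [H.addSpace.card]; norm_num)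
  haveI : Finite ↥K := Subtype.finite
  rcases (H.rep hK).classify with ⟨n, hq, hr, hn, h64⟩ | ⟨hf, -⟩
  swap
  · exfalso
    obtain ⟨v, hv, hv'⟩ := hfix
    exact hv (congrArg Additive.toMul (H.addSpace.eq_zero_of_fixed (f := (H.rep hK).r) (x := Additive.ofMul v)
      (congrArg Additive.ofMul hv') (hf _)))
  have hcard : Nat.card {v : H.Vq // H.gam (tauK hK) v = v} = 64 := by
    rw [← h64]
    refine Nat.card_congr ((Equiv.subtypeEquiv Additive.ofMul fun v => ?_))
    show _ ↔ Additive.ofMul v ∈ (H.addSpace.N (H.rep hK).r).range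
    refine ⟨fun h => ⟨Additive.ofMul v, H.addSpace.N_of_fixed (congrArg Additive.ofMul h)⟩, fun ⟨y, hy⟩ => ?_⟩
    have h := H.addSpace.fix_N (H.rep hK).r3 y
    rw [hy] at h
    exact congrArg Additive.toMul h
  have hn1 : n.toMul ≠ 1 := fun h => by
    rw [show n = 0 from congrArg Additive.ofMul h, H.addSpace.q_zero] at hq
    exact zero_ne_one hq
  -- the vectors fixed by the even part
  obtain ⟨C, hC⟩ : ∃ C : Set H.Vq, C = {v | H.gam (tauK hK) v = v ∧ ∀ p, H.gam (altK hK p) v = v} := ⟨_, rfl⟩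
  have hnC : n.toMul ∈ C := hC ▸ ⟨congrArg Additive.toMul hr, fun p => congrArg Additive.toMul (hn p)⟩
  have heven : ∀ x : ↥K, Equiv.Perm.sign (x : P36).1 = 1 → Equiv.Perm.sign (x : P36).2 = 1 → ∀ v ∈ C, H.gam x v = v := by
    intro x h1 h2 v hv
    rw [hC] at hv
    obtain ⟨hv1, hv2⟩ := hv
    obtain ⟨⟨σ, p⟩, hxm⟩ := x
    have hp : H.gam (altK hK ⟨p, Equiv.Perm.mem_alternatingGroup.2 h2⟩) v = v := hv2 _
    rcases kind_A3 σ h1 with e | e | e <;> subst e
    · exact hp
    · rw [show (⟨((finRotate 3 : Equiv.Perm (Fin 3)), p), hxm⟩ : ↥K) =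
        tauK hK * altK hK ⟨p, Equiv.Perm.mem_alternatingGroup.2 h2⟩ from
          Subtype.ext (Prod.ext (mul_one _).symm (one_mul _).symm), H.gam_mul, hp, hv1]
    · rw [show (⟨((finRotate 3 * finRotate 3 : Equiv.Perm (Fin 3)), p), hxm⟩ : ↥K) =
        tauK hK * tauK hK * altK hK ⟨p, Equiv.Perm.mem_alternatingGroup.2 h2⟩ from
          Subtype.ext (Prod.ext (mul_one _).symm (by show p = 1 * 1 * p; simp)), H.gam_mul, H.gam_mul, hp, hv1, hv1]
  have hCK : ∀ x : ↥K, ∀ v ∈ C, H.gam x v ∈ C := by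
    intro x v hv
    have hv' := hC ▸ hv
    rw [hC]
    refine ⟨?_, fun p => ?_⟩
    · rw [← H.gam_mul, show tauK hK * x = x * (x⁻¹ * tauK hK * x) by group, H.gam_mul]
      refine congrArg _ (heven _ ?_ ?_ v hv)
      · show Equiv.Perm.sign ((x : P36).1⁻¹ * finRotate 3 * (x : P36).1) = 1
        rw [map_mul, map_mul, map_inv, show Equiv.Perm.sign (finRotate 3) = 1 by decide, mul_one, inv_mul_cancel]
      · show Equiv.Perm.sign ((x : P36).2⁻¹ * 1 * (x : P36).2) = 1
        rw [mul_one, inv_mul_cancel, map_one]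
    · rw [← H.gam_mul, show altK hK p * x = x * (x⁻¹ * altK hK p * x) by group, H.gam_mul]
      refine congrArg _ (heven _ ?_ ?_ v hv)
      · show Equiv.Perm.sign ((x : P36).1⁻¹ * 1 * (x : P36).1) = 1
        rw [mul_one, inv_mul_cancel, map_one]
      · show Equiv.Perm.sign ((x : P36).2⁻¹ * (p : Equiv.Perm (Fin 6)) * (x : P36).2) = 1
        rw [map_mul, map_mul, map_inv, Equiv.Perm.mem_alternatingGroup.1 p.2, mul_one, inv_mul_cancel]
  have hu : ∀ s : ℤˣ, s * s = 1 := Int.units_mul_self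
  have hinv : ∀ x : ↥K, ∀ v ∈ C, H.gam x (H.gam x v) = v := fun x v hv => by
    rw [← H.gam_mul]
    refine heven _ ?_ ?_ v hv
    · show Equiv.Perm.sign ((x : P36).1 * (x : P36).1) = 1
      rw [map_mul, hu]
    · show Equiv.Perm.sign ((x : P36).2 * (x : P36).2) = 1
      rw [map_mul, hu]
  have hcomm : ∀ x y : ↥K, ∀ v ∈ C, H.gam x (H.gam y v) = H.gam y (H.gam x v) := fun x y v hv => by
    rw [← H.gam_mul, ← H.gam_mul, show x * y = y * x * (x⁻¹ * y⁻¹ * x * y) by group, H.gam_mul]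
    refine congrArg _ (heven _ ?_ ?_ v hv)
    · show Equiv.Perm.sign ((x : P36).1⁻¹ * (y : P36).1⁻¹ * (x : P36).1 * (y : P36).1) = 1
      rw [map_mul, map_mul, map_mul, map_inv, map_inv]
      rw [mul_right_comm (Equiv.Perm.sign (x : P36).1)⁻¹, inv_mul_cancel, one_mul, inv_mul_cancel]
    · show Equiv.Perm.sign ((x : P36).2⁻¹ * (y : P36).2⁻¹ * (x : P36).2 * (y : P36).2) = 1
      rw [map_mul, map_mul, map_mul, map_inv, map_inv]
      rw [mul_right_comm (Equiv.Perm.sign (x : P36).2)⁻¹, inv_mul_cancel, one_mul, inv_mul_cancel]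
  have hmulC : ∀ v ∈ C, ∀ w ∈ C, v * w ∈ C := by
    intro v hv w hw
    rw [hC] at hv hw ⊢
    exact ⟨by rw [map_mul, hv.1, hw.1], fun p => by rw [map_mul, hv.2, hw.2]⟩
  haveI := Fintype.ofFinite ↥K
  suffices hs : ∀ s : Finset ↥K, ∃ m ∈ C, m ≠ 1 ∧ ∀ γ ∈ s, H.gam γ m = m by
    obtain ⟨m, -, hm1, hm⟩ := hs Finset.univ
    exact ⟨m, hm1, fun γ => hm γ (Finset.mem_univ _), hcard⟩
  intro s
  induction s using Finset.induction with
  | empty => exact ⟨_, hnC, hn1, fun γ hγ => absurd hγ (Finset.notMem_empty γ)⟩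
  | insert a s _ ih =>
    obtain ⟨m, hmC, hm1, hm⟩ := ih
    by_cases ha : H.gam a m = m
    · exact ⟨m, hmC, hm1, fun γ hγ => (Finset.mem_insert.1 hγ).elim (fun e => e ▸ ha) (hm γ)⟩
    refine ⟨m * H.gam a m, hmulC _ hmC _ (hCK a m hmC), fun e => ha ?_, fun γ hγ => ?_⟩
    · have hsq : m * m = 1 := H.sp.sq m
      exact (mul_left_cancel (hsq.trans e.symm)).symm
    · rcases Finset.mem_insert.1 hγ with rfl | hγ
      · rw [map_mul, hinv _ _ hmC, mul_comm]
      · rw [map_mul, hm γ hγ, hcomm γ a m hmC, hm γ hγ]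

end Cfsg.Agent.Spor.XS
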