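import Cfsg.Agent.Lib.Spor.ExtraS3A6.Decomp.Perm

/-!
Coordinates for the case of four planes: operators on eight coordinates, the frame of the model, and the
determination of the third element.
-/

set_option autoImplicit false
set_option maxRecDepth 100000
set_option synthInstance.maxSize 2048
set_option synthInstance.maxHeartbeats 400000

namespace Cfsg.Agent.Spor.ExtraS3A6

/-- two copies of the even subsets -/
abbrev W : Type := Pm × Pm

/-- the element of order three on the pair -/
def rW (z : W) : W := (z.2, z.1 + z.2)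

/-- the diagonal action -/
def dact (g : Equiv.Perm (Fin 6)) (z : W) : W := (pact g z.1, pact g z.2)

/-- the form on the pair -/
def qW (z : W) : ZMod 2 := pB z.1 z.2

theorem dact_add (g : Equiv.Perm (Fin 6)) (z z' : W) : dact g (z + z') = dact g z + dact g z' :=
  Prod.ext (map_add _ _ _) (map_add _ _ _)

theorem dact_mul (g h : Equiv.Perm (Fin 6)) (z : W) : dact (g * h) z = dact g (dact h z) :=
  Prod.ext (pact_mul g h _) (pact_mul g h _)

theorem dact_one (z : W) : dact 1 z = z := Prod.ext (pm_one _) (pm_one _)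

theorem rW_add (z z' : W) : rW (z + z') = rW z + rW z' := Prod.ext rfl (add_add_add_comm _ _ _ _)

theorem W_self (z : W) : z + z = 0 :=
  Prod.ext (funext fun _ => CharTwo.add_self_eq_zero _) (funext fun _ => CharTwo.add_self_eq_zero _)

theorem W_eq {z w : W} (h : z + w = 0) : z = w := by
  calc z = z + (w + w) := by rw [W_self, add_zero]
    _ = w := by rw [← add_assoc, h, zero_add]

theorem dact_faithful (g : A6) (h : ∀ z, dact (g : Equiv.Perm (Fin 6)) z = z) : g = 1 :=
  pact_faithful g fun x => congrArg Prod.fst (h (x, 0))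

namespace Co

/-- the first element: the scalars on the first plane and the inverse ones on the third -/
def aC (z : W) : W :=
  (![z.2 0, z.1 1, z.1 2 + z.2 2, z.1 3], ![z.1 0 + z.2 0, z.2 1, z.1 2, z.2 3])

/-- the second element -/
def bC (z : W) : W :=
  (![z.1 0, z.2 1, z.1 2, z.1 3 + z.2 3], ![z.2 0, z.1 1 + z.2 1, z.2 2, z.1 3])

/-- the element permuting the planes -/
def tC (z : W) : W :=
  (![z.1 3, z.1 0, z.1 1, z.1 2], ![z.2 3, z.2 0, z.2 1, z.2 2])

/-- the element inverting the third -/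
def vC (z : W) : W := bC (bC (tC (tC z)))

/-- the form -/
def qC (z : W) : ZMod 2 :=
  z.1 0 + z.1 0 * z.2 0 + z.2 0 + (z.1 1 + z.1 1 * z.2 1 + z.2 1) + (z.1 2 + z.1 2 * z.2 2 + z.2 2) +
    (z.1 3 + z.1 3 * z.2 3 + z.2 3)

/-- the polar form -/
def bF (z w : W) : ZMod 2 :=
  z.1 0 * w.2 0 + z.2 0 * w.1 0 + (z.1 1 * w.2 1 + z.2 1 * w.1 1) + (z.1 2 * w.2 2 + z.2 2 * w.1 2) +
    (z.1 3 * w.2 3 + z.2 3 * w.1 3)

theorem qC_add (z w : W) : qC (z + w) + qC z + qC w = bF z w := by
  simp only [qC, bF, Prod.fst_add, Prod.snd_add, Pi.add_apply]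
  generalize z.1 0 = a0, z.1 1 = a1, z.1 2 = a2, z.1 3 = a3, z.2 0 = b0, z.2 1 = b1, z.2 2 = b2, z.2 3 = b3,
    w.1 0 = c0, w.1 1 = c1, w.1 2 = c2, w.1 3 = c3, w.2 0 = d0, w.2 1 = d1, w.2 2 = d2, w.2 3 = d3
  have key : ∀ a b c d : ZMod 2,
      a + c + (a + c) * (b + d) + (b + d) + (a + a * b + b) + (c + c * d + d) = a * d + b * c := by decide
  rw [← key a0 b0 c0 d0, ← key a1 b1 c1 d1, ← key a2 b2 c2 d2, ← key a3 b3 c3 d3]
  abel

/-- a scalar of two elements times a vector -/
def sm (e : ZMod 2) (f : W) : W := (fun i => e * f.1 i, fun i => e * f.2 i)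

/-- the part in the plane of a vector -/
def pick (f x : W) : W := sm (bF x (rW f)) f + sm (bF x f) (rW f)

/-- an element of order three given by its two planes -/
def cF (f g x : W) : W := x + pick f x + rW (pick f x) + pick g x + rW (rW (pick g x))

/-- its inverse -/
def cI (f g x : W) : W := x + pick f x + rW (rW (pick f x)) + pick g x + rW (pick g x)

/-- the first vector of the frame -/
def e1 : W := (![1, 0, 0, 0], 0)

/-- the third -/
def e3 : W := (![0, 0, 1, 0], 0)

/-- the coordinate vectors -/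
def ev (i : Fin 8) : W :=
  (![![1, 0, 0, 0], ![0, 1, 0, 0], ![0, 0, 1, 0], ![0, 0, 0, 1], 0, 0, 0, 0] i,
    ![0, 0, 0, 0, ![1, 0, 0, 0], ![0, 1, 0, 0], ![0, 0, 1, 0], ![0, 0, 0, 1]] i)

/-- the first element is given by the planes of the first and of any eigenvector for the inverse scalar -/
theorem a_formula : ∀ g : W, aC g = rW (rW g) → g ≠ 0 → ∀ x, aC x = cF e1 g x := by decide +kernel

theorem aa_formula : ∀ g : W, aC g = rW (rW g) → g ≠ 0 → ∀ x, aC (aC x) = cI e1 g x := by decide +kernel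

/-- a vector is the sum of its coordinates -/
theorem ev_sum : ∀ z : W, z = sm (z.1 0) (ev 0) + sm (z.1 1) (ev 1) + sm (z.1 2) (ev 2) + sm (z.1 3) (ev 3) +
    (sm (z.2 0) (ev 4) + sm (z.2 1) (ev 5) + sm (z.2 2) (ev 6) + sm (z.2 3) (ev 7)) := by decide +kernel

theorem sm_zero (f : W) : sm 0 f = 0 := Prod.ext (funext fun _ => zero_mul _) (funext fun _ => zero_mul _)

theorem sm_one (f : W) : sm 1 f = f := Prod.ext (funext fun _ => one_mul _) (funext fun _ => one_mul _)

/-- additive maps which agree on the coordinate vectors are equal -/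
theorem ext_ev {F G : W →+ W} (h : ∀ i, F (ev i) = G (ev i)) (z : W) : F z = G z := by
  have hs : ∀ (e : ZMod 2) i, F (sm e (ev i)) = G (sm e (ev i)) := fun e i => by
    have he : e = 0 ∨ e = 1 := by revert e; decide
    rcases he with rfl | rfl
    · rw [sm_zero, map_zero, map_zero]
    · rw [sm_one]; exact h i
  rw [ev_sum z]
  simp only [map_add, hs]

theorem e1_eigen : aC e1 = rW e1 := by decide +kernel

/-- the coefficients of the frame in the model -/
def fr : Fin 4 → W :=
  ![((![1, 1, 0, 0]), (![0, 1, 1, 0])), ((![0, 0, 0, 1]), (![1, 1, 1, 1])), ((![1, 1, 0, 0]), (![1, 0, 1, 0])),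
    ((![0, 0, 0, 1]), (![1, 1, 1, 0]))]

/-- the map to the model -/
def M (z : W) : W :=
  sm (z.1 0) (fr 0) + sm (z.1 1) (fr 1) + sm (z.1 2) (fr 2) + sm (z.1 3) (fr 3) +
    (sm (z.2 0) (rW (fr 0)) + sm (z.2 1) (rW (fr 1)) + sm (z.2 2) (rW (fr 2)) + sm (z.2 3) (rW (fr 3)))

theorem sm_add (e d : ZMod 2) (f : W) : sm (e + d) f = sm e f + sm d f :=
  Prod.ext (funext fun _ => add_mul _ _ _) (funext fun _ => add_mul _ _ _)

theorem M_add (z w : W) : M (z + w) = M z + M w := by
  simp only [M, Prod.fst_add, Prod.snd_add, Pi.add_apply, sm_add]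
  abel

theorem M_ker : ∀ z : W, M z = 0 → z = 0 := by decide +kernel

theorem M_bij : Function.Bijective M := by
  refine (Finite.injective_iff_bijective).1 fun z w h => ?_
  have h0 : M (z + w) = 0 := by rw [M_add, h, W_self]
  exact W_eq (M_ker _ h0)

theorem M_r : ∀ z : W, M (rW z) = rW (M z) := by decide +kernel

theorem M_q : ∀ z : W, qW (M z) = qC z := by decide +kernel

theorem M_a : ∀ z : W, M (aC z) = dact (gens1.a : Equiv.Perm (Fin 6)) (M z) := by decide +kernel

theorem M_b : ∀ z : W, M (bC z) = dact (gens1.b : Equiv.Perm (Fin 6)) (M z) := by decide +kernel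

theorem M_t : ∀ z : W, M (tC z) = dact (gens1.t : Equiv.Perm (Fin 6)) (M z) := by decide +kernel

/-- the conditions on a candidate -/
abbrev Cand (f : W) : Prop :=
  qC f = 1 ∧ bF f (vC f) = 0 ∧ bF (rW f) (vC f) = 0 ∧
    (∀ i, aC (cF f (vC f) (aC (ev i))) = cI f (vC f) (ev i)) ∧
    ∀ i, tC (cF f (vC f) (tC (ev i))) = cI f (vC f) (ev i)

/-- the third element is the standard one -/
theorem c_basis : ∀ f : W, Cand f → ∀ i, M (cF f (vC f) (ev i)) = dact (gens1.c : Equiv.Perm (Fin 6)) (M (ev i)) := by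
  decide +kernel

end Co

end Cfsg.Agent.Spor.ExtraS3A6
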