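import Cfsg.Agent.Lib.Spor.ExtraS3A6.Decomp.Beta
import Cfsg.Agent.Lib.Spor.ExtraS3A6.Decomp.Coord

/-!
The moved part of the first has sixteen elements: coordinates in which the operators are those of the model.
-/

set_option autoImplicit false
set_option linter.unusedSectionVars false

namespace Cfsg.Agent.Spor.ExtraS3A6

universe u

namespace Space

variable {V : Type u} [AddCommGroup V] (S : Space V)
include S

theorem sc_map {U : Type*} [AddCommGroup U] (f : V →+ U) (e : ZMod 2) (v : V) : f (sc e v) = sc e (f v) := by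
  rcases S.zero_or_one e with rfl | rfl
  · rw [S.sc_zero, map_zero]; exact (if_pos rfl).symm
  · rw [S.sc_one]; exact (if_neg one_ne_zero).symm

theorem sc_iso (f : V ≃+ V) (e : ZMod 2) (v : V) : f (sc e v) = sc e (f v) := S.sc_map f.toAddMonoidHom e v

theorem sc_sum (e : ZMod 2) (v w : V) : sc e (v + w) = sc e v + sc e w := by
  rcases S.zero_or_one e with rfl | rfl
  · rw [S.sc_zero, S.sc_zero, S.sc_zero, add_zero]
  · rw [S.sc_one, S.sc_one, S.sc_one]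

theorem q_sc (e : ZMod 2) (v : V) : S.q (sc e v) = e * S.q v := by
  rcases S.zero_or_one e with rfl | rfl
  · rw [S.sc_zero, S.q_zero, zero_mul]
  · rw [S.sc_one, one_mul]

end Space

namespace Ops

variable {V : Type u} [AddCommGroup V] {S : Space V} (O : Ops S)
include O

/-- an element of the plane of a vector -/
def pl (x y : ZMod 2) (v : V) : V := sc x v + sc y (O.r v)

/-- the map from coordinates given by a frame -/
def Phi (u1 u2 u3 u4 : V) : W →+ V :=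
  AddMonoidHom.mk' (fun z =>
    O.pl (z.1 0) (z.2 0) u1 + O.pl (z.1 1) (z.2 1) u2 + O.pl (z.1 2) (z.2 2) u3 + O.pl (z.1 3) (z.2 3) u4)
    fun z w => by
      simp only [pl, Prod.fst_add, Prod.snd_add, Pi.add_apply, S.sc_add]
      abel

theorem Phi_apply (u1 u2 u3 u4 : V) (z : W) : O.Phi u1 u2 u3 u4 z =
    O.pl (z.1 0) (z.2 0) u1 + O.pl (z.1 1) (z.2 1) u2 + O.pl (z.1 2) (z.2 2) u3 + O.pl (z.1 3) (z.2 3) u4 := rfl

/-- the commuting element has no fixed points -/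
theorem fpf [Finite V] (h : O.Split) (h16 : Nat.card O.Pa = 16) (x : V) : S.N O.r x = 0 := by
  classical
  have hPb : ∀ {y}, y ∈ O.Pa → S.N O.b (O.t y) = 0 := fun hy => by rw [O.N_b, O.mem_Pa.mp hy, map_zero]
  have hsum : ∀ v : V, ∃ y ∈ O.Pa, ∃ y' ∈ O.Pa, y + O.t y' = v := by
    have hbij : Function.Bijective fun p : ↥O.Pa × ↥O.Pa => (p.1 : V) + O.t (p.2 : V) := by
      refine (Nat.bijective_iff_injective_and_card _).mpr ⟨?_, by rw [Nat.card_prod, h16, S.card]⟩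
      rintro ⟨⟨x, hx⟩, ⟨y, hy⟩⟩ ⟨⟨x', hx'⟩, ⟨y', hy'⟩⟩ e
      obtain ⟨e1, e2⟩ := O.sum_inj h hx hx' (hPb hy) (hPb hy') e
      exact Prod.ext (Subtype.ext e1) (Subtype.ext (O.t.injective e2))
    intro v
    obtain ⟨⟨y, y'⟩, e⟩ := hbij.2 v
    exact ⟨y, y.2, y', y'.2, e⟩
  suffices hPa : ∀ y ∈ O.Pa, S.N O.r y = 0 by
    obtain ⟨y, hy, y', hy', rfl⟩ := hsum x
    rw [map_add, hPa y hy, S.N_comm O.rt, hPa y' hy', map_zero, add_zero]
  let A1 : AddSubgroup V := O.Pa ⊓ (S.N O.r).ker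
  let A0 : AddSubgroup V :=
    { carrier := {y | y ∈ O.Pa ∧ O.r y = y}
      add_mem' := fun ha hb => ⟨O.Pa.add_mem ha.1 hb.1, by rw [map_add, ha.2, hb.2]⟩
      zero_mem' := ⟨O.Pa.zero_mem, map_zero _⟩
      neg_mem' := fun ha => ⟨O.Pa.neg_mem ha.1, by rw [map_neg, ha.2]⟩ }
  by_contra hne
  push Not at hne
  obtain ⟨y, hy, hy0⟩ := hne
  have hNy : S.N O.r y ∈ O.Pa := by
    rw [O.mem_Pa, show S.N O.a (S.N O.r y) = S.N O.r (S.N O.a y) by
      simp only [Space.N_apply, map_add, O.ra]; abel, O.mem_Pa.mp hy, map_zero]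
  have hu : S.N O.r y ∈ A0 := ⟨hNy, S.fix_N O.r3 y⟩
  by_cases h1 : ∀ w ∈ A1, w = 0
  · -- everything is fixed
    obtain ⟨v, hv⟩ := O.rne
    refine hv ?_
    have hfix : ∀ w ∈ O.Pa, O.r w = w := fun w hw => (S.eq_of_add (h1 (w + O.r w) ⟨O.Pa.add_mem hw (O.Pa_r hw),
      S.N_sub O.r3 w⟩)).symm
    obtain ⟨w, hw, w', hw', rfl⟩ := hsum v
    rw [map_add, O.rt, hfix w hw, hfix w' hw']
  push Not at h1
  obtain ⟨w, hw, hw0⟩ := h1
  have hA1a : ∀ z ∈ A1, O.a z ∈ A1 := fun z hz => ⟨O.Pa_a hz.1, by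
    show S.N O.r (O.a z) = 0
    rw [S.N_comm O.ra, show S.N O.r z = 0 from hz.2, map_zero]⟩
  have hA0a : ∀ z ∈ A0, O.a z ∈ A0 := fun z hz => ⟨O.Pa_a hz.1, by rw [O.ra, hz.2]⟩
  have c1 : (∀ z ∈ A1, z = 0 ∨ z = w ∨ z = O.a w ∨ z = O.a (O.a w)) ∧ Nat.card A1 = 4 ∨ 16 ≤ Nat.card A1 :=
    S.four_or_more O.a3 A1 hA1a (fun z hz => hz.1) hw hw0
  have c0 : 4 ≤ Nat.card A0 := by
    rcases S.four_or_more O.a3 A0 hA0a (fun z hz => hz.1) hu hy0 with ⟨-, e⟩ | e <;> omega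
  have hle : Nat.card A0 * Nat.card A1 ≤ 16 := by
    have hinj : Function.Injective fun p : ↥A0 × ↥A1 => (⟨(p.1 : V) + (p.2 : V), O.Pa.add_mem p.1.2.1 p.2.2.1⟩ : O.Pa) := by
      rintro ⟨⟨x, hx⟩, ⟨z, hz⟩⟩ ⟨⟨x', hx'⟩, ⟨z', hz'⟩⟩ e
      have e' : x + z = x' + z' := congrArg Subtype.val e
      have e1 := congrArg (S.N O.r) e'
      rw [map_add, map_add, S.N_of_fixed hx.2, S.N_of_fixed hx'.2, show S.N O.r z = 0 from hz.2,
        show S.N O.r z' = 0 from hz'.2, add_zero, add_zero] at e1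
      exact Prod.ext (Subtype.ext e1) (Subtype.ext (add_left_cancel (e1 ▸ e')))
    have := Nat.card_le_card_of_injective _ hinj
    rwa [Nat.card_prod, h16] at this
  rcases c1 with ⟨hall, -⟩ | c1
  · have hrw : O.r w = w := by
      refine S.trivial_on_four O.a3 O.r3 (s := O.t.trans O.t) hw hw0 hw.1 hall (fun z hz => ⟨O.Pa_r hz.1, ?_⟩)
        (fun z hz => ⟨O.Pa_tt hz.1, ?_⟩) O.ra O.rtt O.tta w hw
      · show S.N O.r (O.r z) = 0
        rw [S.N_comm (fun _ => rfl), show S.N O.r z = 0 from hz.2, map_zero]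
      · show S.N O.r (O.t (O.t z)) = 0
        rw [S.N_comm O.rt, S.N_comm O.rt, show S.N O.r z = 0 from hz.2, map_zero, map_zero]
    exact hw0 (S.eq_zero_of_fixed hrw hw.2)
  · nlinarith

/-- the coordinates -/
theorem alpha [Finite V] (h : O.Split) (h16 : Nat.card O.Pa = 16) :
    ∃ e : V ≃+ W, (∀ x, qW (e x) = S.q x) ∧ (∀ x, e (O.r x) = rW (e x)) ∧
      (∀ x, e (O.a x) = dact (gens1.a : Equiv.Perm (Fin 6)) (e x)) ∧
      (∀ x, e (O.b x) = dact (gens1.b : Equiv.Perm (Fin 6)) (e x)) ∧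
      ∀ x, e (O.c x) = dact (gens1.c : Equiv.Perm (Fin 6)) (e x) := by
  classical
  have hN : ∀ x, S.N O.r x = 0 := O.fpf h h16
  have hrot : ∀ x, O.r (O.r x) = x + O.r x := fun x => S.rot (hN x)
  have hzero : ∀ {x}, O.r x = x → x = 0 := fun hx => S.eq_zero_of_fixed hx (hN _)
  obtain ⟨u1, h1P, h10, ha1⟩ : ∃ e ∈ O.Pa, e ≠ 0 ∧ O.a e = O.r e := by
    obtain ⟨x, hx, hx0⟩ := O.exists_Pa
    have haa : O.a (O.a x) = x + O.a x := S.rot (O.mem_Pa.mp hx)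
    by_cases hy : O.a x + O.r (O.r x) = 0
    · refine ⟨O.t (O.t x), O.Pa_tt hx, fun e => hx0 (O.t.injective (O.t.injective (by rw [e, map_zero, map_zero]))), ?_⟩
      have hax : O.a x = O.r (O.r x) := S.eq_of_add hy
      calc O.a (O.t (O.t x)) = O.t (O.t (O.a (O.a x))) := by rw [O.tta, O.tta, O.a3]
        _ = O.t (O.t (O.r x)) := by rw [hax, ← O.ra, ← O.ra, hax, O.r3]
        _ = O.r (O.t (O.t x)) := O.rtt x
    · refine ⟨_, O.Pa.add_mem (O.Pa_a hx) (O.Pa_r (O.Pa_r hx)), hy, ?_⟩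
      refine S.eq_of_add ?_
      rw [map_add, map_add, haa, ← O.ra, ← O.ra, O.r3, hrot (O.a x)]
      have : O.r (O.a x) + O.a x + O.r (O.a x) = O.a x := by
        rw [add_comm (O.r (O.a x)), add_assoc, S.self_add, add_zero]
      calc x + O.a x + (O.a x + O.r (O.a x)) + (O.r (O.a x) + x)
          = (x + x) + (O.a x + O.a x) + (O.r (O.a x) + O.r (O.a x)) := by abel
        _ = 0 := by simp only [S.self_add, add_zero]
  obtain ⟨u2, hu2⟩ : ∃ u, u = O.t u1 := ⟨_, rfl⟩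
  obtain ⟨u3, hu3⟩ : ∃ u, u = O.t u2 := ⟨_, rfl⟩
  obtain ⟨u4, hu4⟩ : ∃ u, u = O.t u3 := ⟨_, rfl⟩
  have hu1 : O.t u4 = u1 := by rw [hu4, hu3, hu2, O.t4]
  have ha3 : O.a u3 = O.r (O.r u3) := by
    rw [hu3, hu2]
    calc O.a (O.t (O.t u1)) = O.t (O.t (O.a (O.a u1))) := by rw [O.tta, O.tta, O.a3]
      _ = O.t (O.t (O.r (O.r u1))) := by rw [ha1, ← O.ra, ha1]
      _ = _ := by rw [O.rtt, O.rtt]
  have h3P : u3 ∈ O.Pa := hu3 ▸ hu2 ▸ O.Pa_tt h1P
  have h2b : S.N O.b u2 = 0 := by rw [hu2, O.N_b, O.mem_Pa.mp h1P, map_zero]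
  have h4b : S.N O.b u4 = 0 := by rw [hu4, O.N_b, O.mem_Pa.mp h3P, map_zero]
  have hb1 : O.b u1 = u1 := h u1 h1P
  have hb3 : O.b u3 = u3 := h u3 h3P
  have ha2 : O.a u2 = u2 := O.a_fix_Pb h h2b
  have ha4 : O.a u4 = u4 := O.a_fix_Pb h h4b
  have hb2 : O.b u2 = O.r u2 := by rw [hu2, ← O.ta, ha1, O.rt]
  have hb4 : O.b u4 = O.r (O.r u4) := by rw [hu4, ← O.ta, ha3, O.rt, O.rt]
  -- opposite eigenvectors are orthogonal
  have opp : ∀ {x y}, O.a x = O.r x → O.a y = O.r (O.r y) → S.b x y = 0 ∧ S.b x (O.r y) = 0 := by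
    intro x y hx hy
    have key : ∀ {w}, O.a w = O.r (O.r w) → S.b x w = S.b x (O.r w) := fun {w} hw => by
      have := O.ia.b_eq S x w
      rw [hx, hw, O.ir.b_eq S] at this
      exact this.symm
    have hy' : O.a (O.r y) = O.r (O.r (O.r y)) := by rw [← O.ra, hy]
    have e1 := key hy
    have e2 := key hy'
    rw [hrot, S.b_add_right, ← e1, CharTwo.add_self_eq_zero] at e2
    exact ⟨e2, e1 ▸ e2⟩
  have orth : ∀ {v w}, S.b v w = 0 → S.b v (O.r w) = 0 → ∀ x y x' y', S.b (O.pl x y v) (O.pl x' y' w) = 0 := by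
    intro v w h1 h2 x y x' y'
    have h3 : S.b (O.r v) w = 0 := by
      rw [← O.ir.b_eq S, ← O.ir.b_eq S, O.r3, hrot, S.b_add_right, h1, h2, add_zero]
    have h4 : S.b (O.r v) (O.r w) = 0 := (O.ir.b_eq S v w).trans h1
    have hl : ∀ m, S.b v m = 0 → S.b (O.r v) m = 0 → S.b (O.pl x y v) m = 0 := fun m e1 e2 => by
      rw [S.b_comm, pl, S.b_add_right, S.b_sc, S.b_sc, S.b_comm m, S.b_comm m, e1, e2, mul_zero, mul_zero, add_zero]
    show S.b _ (sc x' w + sc y' (O.r w)) = 0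
    rw [S.b_add_right, S.b_sc, S.b_sc, hl w h1 h3, hl _ h2 h4, mul_zero, mul_zero, add_zero]
  have o13 := orth (opp ha1 ha3).1 (opp ha1 ha3).2
  have o12 := orth (O.Pa_Pb h h1P h2b) (O.Pa_Pb h h1P (by rw [S.N_comm (fun z => (O.rb z).symm), h2b, map_zero]))
  have o14 := orth (O.Pa_Pb h h1P h4b) (O.Pa_Pb h h1P (by rw [S.N_comm (fun z => (O.rb z).symm), h4b, map_zero]))
  have tsh : ∀ {v w}, S.b v w = 0 → S.b v (O.r w) = 0 → S.b (O.t v) (O.t w) = 0 ∧ S.b (O.t v) (O.r (O.t w)) = 0 :=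
    fun e1 e2 => ⟨(O.it.b_eq S _ _).trans e1, by rw [O.rt, O.it.b_eq S]; exact e2⟩
  have o23 : ∀ x y x' y', S.b (O.pl x y u2) (O.pl x' y' u3) = 0 := by
    obtain ⟨e1, e2⟩ := tsh (O.Pa_Pb h h1P h2b) (O.Pa_Pb h h1P (by rw [S.N_comm (fun z => (O.rb z).symm), h2b, map_zero]))
    rw [← hu2, ← hu3] at e1 e2
    exact orth e1 e2
  have o24 : ∀ x y x' y', S.b (O.pl x y u2) (O.pl x' y' u4) = 0 := by
    obtain ⟨e1, e2⟩ := tsh (opp ha1 ha3).1 (opp ha1 ha3).2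
    rw [← hu2, ← hu4] at e1 e2
    exact orth e1 e2
  have o34 : ∀ x y x' y', S.b (O.pl x y u3) (O.pl x' y' u4) = 0 :=
    orth (O.Pa_Pb h h3P h4b) (O.Pa_Pb h h3P (by rw [S.N_comm (fun z => (O.rb z).symm), h4b, map_zero]))
  -- the map from coordinates is bijective
  obtain ⟨Φ, hΦ⟩ : ∃ Φ, Φ = O.Phi u1 u2 u3 u4 := ⟨_, rfl⟩
  have plz : ∀ {v}, v ≠ 0 → ∀ x y, O.pl x y v = 0 → x = 0 ∧ y = 0 := fun {v} hv x y e => by
    rcases S.zero_or_one x with rfl | rfl <;> rcases S.zero_or_one y with rfl | rfl <;>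
      simp only [pl, S.sc_zero, S.sc_one, zero_add, add_zero] at e
    · exact ⟨rfl, rfl⟩
    · exact absurd (O.r.injective (e.trans (map_zero _).symm)) hv
    · exact absurd e hv
    · exact absurd (hzero (S.eq_of_add e).symm) hv
  have plPa : ∀ {v}, v ∈ O.Pa → ∀ x y, O.pl x y v ∈ O.Pa := fun hv x y => by
    refine O.Pa.add_mem ?_ ?_
    · rcases S.zero_or_one x with rfl | rfl
      · rw [S.sc_zero]; exact O.Pa.zero_mem
      · rw [S.sc_one]; exact hv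
    · rcases S.zero_or_one y with rfl | rfl
      · rw [S.sc_zero]; exact O.Pa.zero_mem
      · rw [S.sc_one]; exact O.Pa_r hv
  have plmap : ∀ (f : V ≃+ V), (∀ z, O.r (f z) = f (O.r z)) → ∀ x y v, f (O.pl x y v) = O.pl x y (f v) :=
    fun f hf x y v => by rw [pl, pl, map_add, S.sc_iso, S.sc_iso, hf]
  have t0 : ∀ {v}, O.t v = 0 → v = 0 := fun e => O.t.injective (e.trans (map_zero _).symm)
  have hne : u1 ≠ 0 ∧ u2 ≠ 0 ∧ u3 ≠ 0 ∧ u4 ≠ 0 := by
    have h2 : u2 ≠ 0 := fun e => h10 (t0 (hu2 ▸ e))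
    have h3 : u3 ≠ 0 := fun e => h2 (t0 (hu3 ▸ e))
    exact ⟨h10, h2, h3, fun e => h3 (t0 (hu4 ▸ e))⟩
  have pair : ∀ x y x' y', O.pl x y u1 + O.pl x' y' u3 = 0 → x = 0 ∧ y = 0 ∧ x' = 0 ∧ y' = 0 := by
    intro x y x' y' e
    have e' := S.eq_of_add e
    have hA := plmap O.a O.ra x y u1
    have hB := plmap O.a O.ra x' y' u3
    rw [ha1, ← plmap O.r (fun _ => rfl)] at hA
    rw [ha3, ← plmap O.r (fun _ => rfl), ← plmap O.r (fun _ => rfl), ← e', hA] at hB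
    have h0 := hzero (O.r.injective hB).symm
    rw [h0] at e'
    exact ⟨(plz h10 x y h0).1, (plz h10 x y h0).2, (plz hne.2.2.1 x' y' e'.symm).1, (plz hne.2.2.1 x' y' e'.symm).2⟩
  have hinj : Function.Injective Φ := by
    refine (injective_iff_map_eq_zero Φ).2 fun z hz => ?_
    rw [hΦ, O.Phi_apply] at hz
    have e2 : O.pl (z.1 1) (z.2 1) u2 + O.pl (z.1 3) (z.2 3) u4 =
        O.t (O.pl (z.1 1) (z.2 1) u1 + O.pl (z.1 3) (z.2 3) u3) := by
      rw [map_add, plmap O.t O.rt, plmap O.t O.rt, hu2, hu4]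
    have hzz : (O.pl (z.1 0) (z.2 0) u1 + O.pl (z.1 2) (z.2 2) u3) +
        O.t (O.pl (z.1 1) (z.2 1) u1 + O.pl (z.1 3) (z.2 3) u3) = 0 + 0 := by
      rw [← e2, add_zero, ← hz]; abel
    obtain ⟨f1, f2⟩ := O.sum_inj h (O.Pa.add_mem (plPa h1P _ _) (plPa h3P _ _)) O.Pa.zero_mem
      (by rw [O.N_b, O.mem_Pa.mp (O.Pa.add_mem (plPa h1P _ _) (plPa h3P _ _)), map_zero]) (map_zero _) hzz
    obtain ⟨a0, b0, a2, b2⟩ := pair _ _ _ _ f1
    obtain ⟨a1, b1, a3, b3⟩ := pair _ _ _ _ (t0 f2)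
    refine Prod.ext (funext fun i => ?_) (funext fun i => ?_) <;> fin_cases i
    exacts [a0, a1, a2, a3, b0, b1, b2, b3]
  have hbij : Function.Bijective Φ := (Nat.bijective_iff_injective_and_card _).mpr ⟨hinj, by
    rw [S.card]; simp [Nat.card_eq_fintype_card, ZMod.card]⟩
  -- the form
  have hq : S.q u1 = 1 := by
    refine (S.zero_or_one _).resolve_left fun hq0 => h10 (S.eq_zero fun v => ?_)
    obtain ⟨z, rfl⟩ := hbij.2 v
    have hb0 : S.b u1 (O.r u1) = 0 := by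
      have e := S.q_add u1 (O.r u1)
      rw [← hrot, O.ir, O.ir u1, hq0, zero_add, zero_add] at e
      exact e.symm
    have e1 : u1 = O.pl 1 0 u1 := by rw [pl, S.sc_one, S.sc_zero, add_zero]
    rw [hΦ, O.Phi_apply, S.b_add_right, S.b_add_right, S.b_add_right]
    have e1' : ∀ X, S.b u1 X = S.b (O.pl 1 0 u1) X := fun X => by rw [← e1]
    rw [e1', e1', e1', e1', orth (S.b_self u1) hb0, o12, o13, o14]
    simp only [add_zero]
  have hqu : ∀ {v}, v = u1 ∨ v = u2 ∨ v = u3 ∨ v = u4 → S.q v = 1 ∧ S.b v (O.r v) = 1 := by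
    intro v hv
    have hqv : S.q v = 1 := by
      rcases hv with rfl | rfl | rfl | rfl
      exacts [hq, by rw [hu2, O.it, hq], by rw [hu3, O.it, hu2, O.it, hq], by rw [hu4, O.it, hu3, O.it, hu2, O.it, hq]]
    refine ⟨hqv, ?_⟩
    have e := S.q_add v (O.r v)
    rw [← hrot, O.ir, O.ir v, hqv] at e
    revert e
    generalize S.b v (O.r v) = p
    revert p
    decide
  have qpl : ∀ {v}, v = u1 ∨ v = u2 ∨ v = u3 ∨ v = u4 → ∀ x y, S.q (O.pl x y v) = x + x * y + y := fun hv x y => by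
    obtain ⟨h1, h2⟩ := hqu hv
    rw [pl, S.q_add, S.q_sc, S.q_sc, S.b_sc, S.b_comm (sc x _), S.b_sc, S.b_comm (O.r _), O.ir, h1, h2]
    ring
  have hqC : ∀ z, S.q (Φ z) = Co.qC z := fun z => by
    rw [hΦ, O.Phi_apply, S.q_add, S.q_add, S.q_add, qpl (Or.inl rfl), qpl (Or.inr (Or.inl rfl)),
      qpl (Or.inr (Or.inr (Or.inl rfl))), qpl (Or.inr (Or.inr (Or.inr rfl))), o12, S.b_add_left, o13, o23,
      S.b_add_left, S.b_add_left, o14, o24, o34, Co.qC]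
    simp only [add_zero]
  have hbC : ∀ z w, S.b (Φ z) (Φ w) = Co.bF z w := fun z w => by
    rw [Space.b, ← map_add, hqC, hqC, hqC, Co.qC_add]
  let P : W ≃+ V := AddEquiv.ofBijective Φ hbij
  have hP : ∀ z, P z = Φ z := fun _ => rfl
  -- the operators
  have pl_r : ∀ x y v, O.pl x y (O.r v) = O.pl y (x + y) v := fun x y v => by
    rw [pl, pl, hrot, S.sc_sum, S.sc_add]; abel
  have Phr : ∀ z, Φ (rW z) = O.r (Φ z) := fun z => by
    simp only [hΦ, O.Phi_apply, rW, map_add, plmap O.r (fun _ => rfl), pl_r, Pi.add_apply]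
  have Pha : ∀ z, Φ (Co.aC z) = O.a (Φ z) := fun z => by
    simp only [hΦ, O.Phi_apply, map_add, plmap O.a O.ra, ha1, ha2, ha3, ha4, pl_r]
    simp [Co.aC, add_comm, add_left_comm, CharTwo.add_self_eq_zero]
  have Phb : ∀ z, Φ (Co.bC z) = O.b (Φ z) := fun z => by
    simp only [hΦ, O.Phi_apply, map_add, plmap O.b O.rb, hb1, hb2, hb3, hb4, pl_r]
    simp [Co.bC, add_comm, add_left_comm, CharTwo.add_self_eq_zero]
  have Pht : ∀ z, Φ (Co.tC z) = O.t (Φ z) := fun z => by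
    simp only [hΦ, O.Phi_apply, map_add, plmap O.t O.rt, ← hu2, ← hu3, ← hu4, hu1]
    simp [Co.tC]
    abel
  have Phsm : ∀ e f, Φ (Co.sm e f) = sc e (Φ f) := fun e f => by
    rcases S.zero_or_one e with rfl | rfl
    · rw [Co.sm_zero, map_zero, S.sc_zero]
    · rw [Co.sm_one, S.sc_one]
  -- the planes of the third element
  obtain ⟨pk, hpk⟩ : ∃ pk : V → V → V, pk = fun f y => sc (S.b y (O.r f)) f + sc (S.b y f) (O.r f) := ⟨_, rfl⟩
  obtain ⟨cV, hcV⟩ : ∃ cV : V → V → V → V,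
      cV = fun f g y => y + pk f y + O.r (pk f y) + pk g y + O.r (O.r (pk g y)) := ⟨_, rfl⟩
  obtain ⟨cW, hcW⟩ : ∃ cW : V → V → V → V,
      cW = fun f g y => y + pk f y + O.r (O.r (pk f y)) + pk g y + O.r (pk g y) := ⟨_, rfl⟩
  have Phpk : ∀ f y, Φ (Co.pick f y) = pk (Φ f) (Φ y) := fun f y => by
    simp only [hpk, Co.pick, map_add, Phsm, Phr, ← hbC]
  have PhF : ∀ f g y, Φ (Co.cF f g y) = cV (Φ f) (Φ g) (Φ y) := fun f g y => by
    simp only [hcV, Co.cF, map_add, Phr, Phpk]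
  have PhI : ∀ f g y, Φ (Co.cI f g y) = cW (Φ f) (Φ g) (Φ y) := fun f g y => by
    simp only [hcW, Co.cI, map_add, Phr, Phpk]
  have kpk : ∀ f y, O.k (pk f y) = pk (O.k f) (O.k y) := fun f y => by
    simp only [hpk, map_add, S.sc_iso, O.rk, O.ik.b_eq S]
  have kcV : ∀ f g y, O.k (cV f g y) = cV (O.k f) (O.k g) (O.k y) := fun f g y => by
    simp only [hcV, map_add, ← O.rk, kpk]
  have kcW : ∀ f g y, O.k (cW f g y) = cW (O.k f) (O.k g) (O.k y) := fun f g y => by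
    simp only [hcW, map_add, ← O.rk, kpk]
  have he1 : Φ Co.e1 = u1 := by
    simp [hΦ, O.Phi_apply, Co.e1, pl, sc]
  obtain ⟨F, hF⟩ : ∃ F, Φ F = O.k u1 := hbij.2 _
  obtain ⟨f, hf⟩ : ∃ f, f = O.k u1 := ⟨_, rfl⟩
  rw [← hf] at hF
  obtain ⟨g, hg⟩ : ∃ g, g = O.b (O.b (O.t (O.t f))) := ⟨_, rfl⟩
  have hG : Φ (Co.vC F) = g := by rw [Co.vC, Phb, Phb, Pht, Pht, hF, hg]
  have hcf : O.c f = O.r f := by rw [hf, ← O.ka, ha1, O.rk]
  obtain ⟨z, hz⟩ := O.k.surjective g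
  have hcg : O.c g = O.r (O.r g) := by
    have e := O.vc (O.c (O.c f))
    rw [O.c3, hcf] at e
    rw [hg, e, show O.c (O.r f) = O.r (O.r f) by rw [← O.rc, hcf]]
    simp only [← O.rb, ← O.rt]
  have haz : O.a z = O.r (O.r z) := O.k.injective (by rw [O.ka, ← O.rk, ← O.rk, hz, hcg])
  obtain ⟨Z, hZ⟩ := hbij.2 z
  have hZ1 : Co.aC Z = rW (rW Z) := hinj (by rw [Pha, Phr, Phr, hZ, haz])
  have hg0 : g ≠ 0 := by
    intro e
    have := congrArg (fun y => O.t (O.t (O.b y))) (hg ▸ e : O.b (O.b (O.t (O.t f))) = 0)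
    simp only [O.b3, O.t4, map_zero, hf] at this
    exact h10 (O.k.injective (this.trans (map_zero _).symm))
  have hZ0 : Z ≠ 0 := fun e => hg0 (by rw [← hz, ← hZ, e, map_zero, map_zero])
  have hc : ∀ y, O.c y = cV f g y := fun y => by
    obtain ⟨x, rfl⟩ := O.k.surjective y
    obtain ⟨X, rfl⟩ := hbij.2 x
    rw [← O.ka, ← Pha, Co.a_formula Z hZ1 hZ0 X, PhF, kcV, hZ, he1, ← hf, hz]
  have hcc : ∀ y, O.c (O.c y) = cW f g y := fun y => by
    obtain ⟨x, rfl⟩ := O.k.surjective y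
    obtain ⟨X, rfl⟩ := hbij.2 x
    rw [← O.ka, ← O.ka, ← Pha, ← Pha, Co.aa_formula Z hZ1 hZ0 X, PhI, kcW, hZ, he1, ← hf, hz]
  have hcand : Co.Cand F := by
    refine ⟨?_, ?_, ?_, fun i => hinj ?_, fun i => hinj ?_⟩
    · rw [← hqC, hF, hf, O.ik, hq]
    · rw [← hbC, hF, hG, hf, ← hz, O.ik.b_eq S, (opp ha1 haz).1]
    · rw [← hbC, Phr, hF, hG, hf, ← hz, O.rk, O.ik.b_eq S]
      exact (opp (by rw [← O.ra, ha1]) haz).1
    · rw [Pha, PhF, Pha, PhI, hF, hG, ← hc, ← hcc]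
      conv_lhs => rw [← O.c3 (Φ (Co.ev i))]
      exact O.ac _
    · rw [Pht, PhF, Pht, PhI, hF, hG, ← hc, ← hcc]
      calc O.t (O.c (O.t (Φ (Co.ev i)))) = O.c (O.c (O.c (O.t (O.c (O.t (Φ (Co.ev i))))))) := (O.c3 _).symm
        _ = _ := by rw [O.ct]
  let Mh : W →+ W := AddMonoidHom.mk' Co.M Co.M_add
  let Me : W ≃+ W := AddEquiv.ofBijective Mh Co.M_bij
  have hPs : ∀ x, Φ (P.symm x) = x := P.apply_symm_apply
  have hcW' : ∀ X, Co.M (P.symm (O.c (Φ X))) = dact (gens1.c : Equiv.Perm (Fin 6)) (Co.M X) :=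
    Co.ext_ev (F := Mh.comp (P.symm.toAddMonoidHom.comp (O.c.toAddMonoidHom.comp Φ)))
      (G := AddMonoidHom.mk' (fun X => dact (gens1.c : Equiv.Perm (Fin 6)) (Co.M X)) fun x y => by
        rw [Co.M_add, dact_add])
      fun i => by
        show Co.M (P.symm (O.c (Φ (Co.ev i)))) = dact _ (Co.M (Co.ev i))
        rw [← Co.c_basis F hcand i]
        exact congrArg Co.M (P.symm_apply_eq.mpr (by rw [hP, PhF, hF, hG, hc]))
  refine ⟨P.symm.trans Me, fun x => ?_, fun x => ?_, fun x => ?_, fun x => ?_, fun x => ?_⟩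
  · show qW (Co.M (P.symm x)) = _
    rw [Co.M_q, ← hqC, hPs]
  · show Co.M (P.symm (O.r x)) = rW (Co.M (P.symm x))
    rw [← Co.M_r]
    exact congrArg Co.M (hinj (by rw [Phr, hPs, hPs]))
  · show Co.M (P.symm (O.a x)) = dact _ (Co.M (P.symm x))
    rw [← Co.M_a]
    exact congrArg Co.M (hinj (by rw [Pha, hPs, hPs]))
  · show Co.M (P.symm (O.b x)) = dact _ (Co.M (P.symm x))
    rw [← Co.M_b]
    exact congrArg Co.M (hinj (by rw [Phb, hPs, hPs]))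
  · show Co.M (P.symm (O.c x)) = dact _ (Co.M (P.symm x))
    conv_lhs => rw [← hPs x]
    exact hcW' _

end Ops

end Cfsg.Agent.Spor.ExtraS3A6
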