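import Mathlib.Data.ZMod.Basic
import Mathlib.Algebra.CharP.Two
import Mathlib.Data.Fintype.Pi
import Mathlib.Data.Fintype.Prod
import Mathlib.Data.Fin.VecNotation

/-!
Three planes with two relations between their elements of order three: the six spanning symbols are dependent.
-/

set_option autoImplicit false
set_option maxRecDepth 100000
set_option synthInstance.maxSize 2048
set_option synthInstance.maxHeartbeats 400000

namespace Cfsg.Agent.Spor.ExtraS3A6.Gram

/-- the inner products between two planes -/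
abbrev M2 : Type := (ZMod 2 × ZMod 2) × (ZMod 2 × ZMod 2)

/-- six coordinates -/
abbrev Six : Type := ZMod 2 × ZMod 2 × ZMod 2 × ZMod 2 × ZMod 2 × ZMod 2

/-- the first element of order three -/
def fa (M : M2) : Six → Six
  | (u, u', p, p', f, f') =>
    let bu := u' + M.1.1 * f + M.1.2 * f'
    let bu' := u + M.2.1 * f + M.2.2 * f'
    (u + (bu' + bu), u' + bu', p, p', f, f')

/-- the second element -/
def fb (N : M2) : Six → Six
  | (u, u', p, p', f, f') =>
    let bp := p' + N.1.1 * f + N.1.2 * f'
    let bp' := p + N.2.1 * f + N.2.2 * f'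
    (u, u', p + (bp' + bp), p' + bp', f, f')

/-- the third element -/
def fc (M N : M2) : Six → Six
  | (u, u', p, p', f, f') =>
    let bf := f' + M.1.1 * u + M.2.1 * u' + N.1.1 * p + N.2.1 * p'
    let bf' := f + M.1.2 * u + M.2.2 * u' + N.1.2 * p + N.2.2 * p'
    (u, u', p, p', f + (bf' + bf), f' + bf')

/-- the inner products with the symbols -/
def form (M N : M2) : Six → Six
  | (u, u', p, p', f, f') =>
    (u' + M.1.1 * f + M.1.2 * f', u + M.2.1 * f + M.2.2 * f', p' + N.1.1 * f + N.1.2 * f',
      p + N.2.1 * f + N.2.2 * f', f' + M.1.1 * u + M.2.1 * u' + N.1.1 * p + N.2.1 * p',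
      f + M.1.2 * u + M.2.2 * u' + N.1.2 * p + N.2.2 * p')

/-- the symbols -/
def basis : Fin 6 → Six :=
  ![(1, 0, 0, 0, 0, 0), (0, 1, 0, 0, 0, 0), (0, 0, 1, 0, 0, 0), (0, 0, 0, 1, 0, 0), (0, 0, 0, 0, 1, 0),
    (0, 0, 0, 0, 0, 1)]

/-- the sum of products -/
def dot : Six → Six → ZMod 2
  | (u, u', p, p', f, f'), (v, v', s, s', g, g') => u * v + u' * v' + p * s + p' * s' + f * g + f' * g'

/-- the first relation holds on the symbols -/
def rel1 (M N : M2) : Bool :=
  decide (∀ i, form M N (fa M (fc M N (fa M (fc M N (basis i))))) = form M N (basis i))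

/-- the second relation holds on the symbols -/
def rel2 (M N : M2) : Bool :=
  decide (∀ i, form M N (fb N (fc M N (fb N (fc M N (fb N (fc M N (fb N (fc M N (fb N (fc M N (basis i))))))))))) =
    form M N (basis i))

/-- the symbols are dependent -/
def rad (M N : M2) : Bool :=
  decide (∃ x : Six, x ≠ (0, 0, 0, 0, 0, 0) ∧ form M N x = (0, 0, 0, 0, 0, 0))

theorem dependent : ∀ M N : M2, rel1 M N = true → rel2 M N = true → rad M N = true := by decide +kernel

theorem exists_rad {M N : M2}
    (h1 : ∀ i, form M N (fa M (fc M N (fa M (fc M N (basis i))))) = form M N (basis i))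
    (h2 : ∀ i, form M N (fb N (fc M N (fb N (fc M N (fb N (fc M N (fb N (fc M N (fb N (fc M N (basis i))))))))))) =
      form M N (basis i)) :
    ∃ x : Six, x ≠ (0, 0, 0, 0, 0, 0) ∧ form M N x = (0, 0, 0, 0, 0, 0) :=
  of_decide_eq_true (dependent M N (decide_eq_true h1) (decide_eq_true h2))

theorem exists_dot : ∀ x : Six, x ≠ (0, 0, 0, 0, 0, 0) → ∃ i, dot x (basis i) = 1 := by decide +kernel

end Cfsg.Agent.Spor.ExtraS3A6.Gram
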