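import Cfsg.Agent.Lib.Spor.ExtraS3A6.Decomp.Ops
import Cfsg.Agent.Lib.Spor.ExtraS3A6.Decomp.Gram
import Mathlib.Tactic.Ring

/-!
The moved part of the first has four elements: a plane is moved by the commuting element and everything else
fixes a nonsingular vector.
-/

set_option autoImplicit false
set_option linter.unusedSectionVars false

namespace Cfsg.Agent.Spor.ExtraS3A6

universe u

/-- a scalar of two elements times a vector -/
def sc {V : Type u} [AddCommGroup V] (e : ZMod 2) (v : V) : V := if e = 0 then 0 else v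

namespace Space

variable {V : Type u} [AddCommGroup V] (S : Space V)
include S

theorem zero_or_one : ∀ e : ZMod 2, e = 0 ∨ e = 1 := by decide

theorem sc_zero (v : V) : sc (0 : ZMod 2) v = 0 := if_pos rfl

theorem sc_one (v : V) : sc (1 : ZMod 2) v = v := if_neg one_ne_zero

theorem sc_add (e d : ZMod 2) (v : V) : sc (e + d) v = sc e v + sc d v := by
  rcases S.zero_or_one e with rfl | rfl <;> rcases S.zero_or_one d with rfl | rfl <;>
    simp only [zero_add, add_zero, S.sc_zero, S.sc_one, CharTwo.add_self_eq_zero, S.self_add]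

theorem b_sc (y v : V) (e : ZMod 2) : S.b y (sc e v) = e * S.b y v := by
  rcases S.zero_or_one e with rfl | rfl
  · rw [S.sc_zero, S.b_zero_right, zero_mul]
  · rw [S.sc_one, one_mul]

/-- a plane moved by an element of order three is anisotropic -/
theorem plane_q [Finite V] {f : V ≃+ V} (hf : ∀ x, f (f (f x)) = x) (hi : S.IsIso f) {u : V} (hu : S.N f u = 0)
    (hu0 : u ≠ 0) (hall : ∀ x, S.N f x = 0 → x = 0 ∨ x = u ∨ x = f u ∨ x = f (f u)) :
    S.q u = 1 ∧ S.b u (f u) = 1 := by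
  have hb : S.b u (f u) = 1 := by
    refine (S.zero_or_one _).resolve_left fun h => hu0 (S.moved_nondeg hf hi hu fun y hy => ?_)
    rcases hall y hy with rfl | rfl | rfl | rfl
    · exact S.b_zero_right u
    · exact S.b_self _
    · exact h
    · rw [S.rot hu, S.b_add_right, S.b_self, h, add_zero]
  refine ⟨?_, hb⟩
  have h := S.q_add u (f u)
  rw [← S.rot hu, hb, hi, hi u] at h
  revert h
  generalize S.q u = e
  revert e
  decide

/-- an element of order three with a moved plane -/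
theorem plane_formula [Finite V] {f : V ≃+ V} (hf : ∀ x, f (f (f x)) = x) (hi : S.IsIso f) {u : V}
    (hu : S.N f u = 0) (hu0 : u ≠ 0) (hall : ∀ x, S.N f x = 0 → x = 0 ∨ x = u ∨ x = f u ∨ x = f (f u)) (y : V) :
    f y = y + sc (S.b y (f u) + S.b y u) u + sc (S.b y (f u)) (f u) := by
  obtain ⟨-, hb⟩ := S.plane_q hf hi hu hu0 hall
  obtain ⟨p, hp⟩ : ∃ p, p = y + S.N f y := ⟨_, rfl⟩
  have hy : y = S.N f y + p := by rw [hp, add_comm y, S.add_cancel]
  have hN : S.N f (f u) = 0 := by rw [S.N_comm (fun _ => rfl), hu, map_zero]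
  have h1 : ∀ m, S.N f m = 0 → S.b y m = S.b p m := fun m hm => by
    conv_lhs => rw [hy, S.b_add_left, S.orth hi (S.fix_N hf y) hm, zero_add]
  have key : f p = p + sc (S.b p (f u) + S.b p u) u + sc (S.b p (f u)) (f u) := by
    rcases hall p (hp ▸ S.N_moved_part hf y) with rfl | rfl | rfl | rfl
    · simp only [map_zero, S.b_zero_left, add_zero, S.sc_zero]
    · simp only [hb, S.b_self, add_zero, S.sc_one, S.self_add, zero_add]
    · rw [S.b_self, S.b_comm _ u, hb, zero_add, S.sc_zero, S.sc_one, add_zero, S.rot hu, add_comm]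
    · rw [hf, S.rot hu, S.b_add_left, S.b_add_left, S.b_self, S.b_self, S.b_comm (f u) u, hb, add_zero, zero_add,
        CharTwo.add_self_eq_zero, S.sc_zero, S.sc_one, add_zero, add_assoc, S.self_add, add_zero]
  rw [h1 _ hu, h1 _ hN]
  conv_lhs => rw [hy, map_add, S.fix_N hf, key]
  conv_rhs => rw [hy]
  abel

end Space

namespace Ops

variable {V : Type u} [AddCommGroup V] {S : Space V} (O : Ops S)
include O

/-- the vectors fixed by the commuting element -/
def F : AddSubgroup V := (S.N O.r).range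

theorem mem_F {x : V} : x ∈ O.F ↔ O.r x = x := by
  refine ⟨fun ⟨y, hy⟩ => hy ▸ S.fix_N O.r3 y, fun h => ⟨x, S.N_of_fixed h⟩⟩

/-- three planes, each orthogonal to none of the others, in the sum of two and a central vector -/
theorem no_common [Finite V] (h : O.Split) {u : V} (hu : u ∈ O.Pa) (hu0 : u ≠ 0)
    (hall : ∀ x ∈ O.Pa, x = 0 ∨ x = u ∨ x = O.a u ∨ x = O.a (O.a u)) {n : V} (hn : O.a n = n) (hnb : O.b n = n)
    (hqn : S.q n = 0)
    (hdec : ∀ y, S.N O.c y = 0 → ∃ p p', p ∈ O.Pa ∧ S.N O.b p' = 0 ∧ (y = p + p' ∨ y = p + p' + n)) : False := by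
  obtain ⟨f, hfP, hf0⟩ : ∃ f, S.N O.c f = 0 ∧ f ≠ 0 :=
    ⟨O.k u, by rw [O.N_c, O.mem_Pa.mp hu, map_zero], fun e => hu0 (O.k.injective (e.trans (map_zero _).symm))⟩
  have hPc : ∀ x, S.N O.c x = 0 → x = 0 ∨ x = f ∨ x = O.c f ∨ x = O.c (O.c f) := by
    have hallk : ∀ x, S.N O.c x = 0 → x = 0 ∨ x = O.k u ∨ x = O.c (O.k u) ∨ x = O.c (O.c (O.k u)) := by
      intro x hx
      obtain ⟨y, hy, rfl⟩ := O.exists_of_Pc hx
      rcases hall y hy with rfl | rfl | rfl | rfl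
      exacts [Or.inl (map_zero _), Or.inr (Or.inl rfl), Or.inr (Or.inr (Or.inl (O.ka u))),
        Or.inr (Or.inr (Or.inr (by rw [O.ka, O.ka])))]
    intro x hx
    rcases hallk f hfP with rfl | rfl | rfl | rfl
    · exact absurd rfl hf0
    all_goals try simp only [O.c3]
    all_goals rcases hallk x hx with r | r | r | r <;> simp only [r, true_or, or_true]
  obtain ⟨hq, -⟩ := S.plane_q O.a3 O.ia hu hu0 hall
  have hqPa : ∀ {p}, p ∈ O.Pa → p ≠ 0 → S.q p = 1 := fun {p} hp hp0 => by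
    rcases hall p hp with rfl | rfl | rfl | rfl
    exacts [absurd rfl hp0, hq, (O.ia u).trans hq, ((O.ia _).trans (O.ia u)).trans hq]
  have hqPb : ∀ {p}, S.N O.b p = 0 → p ≠ 0 → S.q p = 1 := fun {p} hp hp0 => by
    obtain ⟨y, hy, rfl⟩ := O.exists_of_Pb hp
    rw [O.it]
    exact hqPa hy fun e => hp0 (by rw [e, map_zero])
  have hqPc : ∀ {p}, S.N O.c p = 0 → p ≠ 0 → S.q p = 1 := fun {p} hp hp0 => by
    obtain ⟨y, hy, rfl⟩ := O.exists_of_Pc hp
    rw [O.ik]
    exact hqPa hy fun e => hp0 (by rw [e, map_zero])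
  have hna : ∀ {p}, p ∈ O.Pa → S.b n p = 0 := fun hp => S.orth O.ia hn hp
  have hnb' : ∀ {p}, S.N O.b p = 0 → S.b n p = 0 := fun hp => S.orth O.ib hnb hp
  -- each member is orthogonal to one of the planes
  have hside : ∀ y, S.N O.c y = 0 →
      (∀ m, S.N O.a m = 0 → S.b y m = 0) ∨ (∀ m, S.N O.b m = 0 → S.b y m = 0) := by
    intro y hy
    by_cases hy0 : y = 0
    · exact Or.inl fun m _ => by rw [hy0, S.b_zero_left]
    obtain ⟨p, p', hp, hp', hyd⟩ := hdec y hy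
    have hval : S.q y = S.q p + S.q p' := by
      rcases hyd with e | e <;> rw [e]
      · rw [S.q_add, O.Pa_Pb h hp hp', add_zero]
      · rw [S.q_add, S.q_add, O.Pa_Pb h hp hp', S.b_comm _ n, S.b_add_right, hna hp, hnb' hp', hqn]
        simp only [add_zero]
    rw [hqPc hy hy0] at hval
    by_cases hp0 : p = 0
    · refine Or.inl fun m hm => ?_
      rcases hyd with e | e <;> rw [e, hp0, zero_add]
      · rw [S.b_comm, O.Pa_Pb h hm hp']
      · rw [S.b_add_left, S.b_comm p', O.Pa_Pb h hm hp', hna hm, add_zero]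
    · refine Or.inr fun m hm => ?_
      have hp'0 : p' = 0 := by
        by_contra hp'0
        rw [hqPa hp hp0, hqPb hp' hp'0] at hval
        exact absurd hval (by decide)
      rcases hyd with e | e <;> rw [e, hp'0, add_zero]
      · exact O.Pa_Pb h hp hm
      · rw [S.b_add_left, O.Pa_Pb h hp hm, hnb' hm, add_zero]
  have hrot := S.rot hfP
  have hcN : S.N O.c (O.c f) = 0 := by rw [S.N_comm (fun _ => rfl), hfP, map_zero]
  have hccN : S.N O.c (O.c (O.c f)) = 0 := by rw [S.N_comm (fun _ => rfl), hcN, map_zero]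
  -- two of the three members agree, hence all
  have hwhole : (∀ y, S.N O.c y = 0 → ∀ m, S.N O.a m = 0 → S.b y m = 0) ∨
      ∀ y, S.N O.c y = 0 → ∀ m, S.N O.b m = 0 → S.b y m = 0 := by
    have fin : ∀ (g : V ≃+ V), (∀ m, S.N g m = 0 → S.b f m = 0) →
        (∀ m, S.N g m = 0 → S.b (O.c f) m = 0) → ∀ y, S.N O.c y = 0 → ∀ m, S.N g m = 0 → S.b y m = 0 := by
      intro g h1 h2 y hy m hm
      rcases hPc y hy with rfl | rfl | rfl | rfl
      exacts [S.b_zero_left m, h1 m hm, h2 m hm, by rw [hrot, S.b_add_left, h1 m hm, h2 m hm, add_zero]]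
    have sub1 : ∀ {g : V ≃+ V}, (∀ m, S.N g m = 0 → S.b (O.c (O.c f)) m = 0) →
        (∀ m, S.N g m = 0 → S.b f m = 0) → ∀ m, S.N g m = 0 → S.b (O.c f) m = 0 := fun h3 h1 m hm => by
      have := h3 m hm
      rwa [hrot, S.b_add_left, h1 m hm, zero_add] at this
    have sub2 : ∀ {g : V ≃+ V}, (∀ m, S.N g m = 0 → S.b (O.c (O.c f)) m = 0) →
        (∀ m, S.N g m = 0 → S.b (O.c f) m = 0) → ∀ m, S.N g m = 0 → S.b f m = 0 := fun h3 h2 m hm => by
      have := h3 m hm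
      rwa [hrot, S.b_add_left, h2 m hm, add_zero] at this
    rcases hside f hfP with h1 | h1 <;> rcases hside _ hcN with h2 | h2 <;> rcases hside _ hccN with h3 | h3
    exacts [Or.inl (fin O.a h1 h2), Or.inl (fin O.a h1 h2), Or.inl (fin O.a h1 (sub1 h3 h1)),
      Or.inr (fin O.b (sub2 h3 h2) h2), Or.inl (fin O.a (sub2 h3 h2) h2), Or.inr (fin O.b h1 (sub1 h3 h1)),
      Or.inr (fin O.b h1 h2), Or.inr (fin O.b h1 h2)]
  rcases hwhole with hw | hw
  · obtain ⟨x, hx⟩ := O.acne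
    exact hx (O.comm_of_orth O.a3 O.c3 O.ia O.ic (fun p y hp hy => by rw [S.b_comm]; exact hw y hy p hp) x)
  · obtain ⟨x, hx⟩ := O.bcne
    exact hx (O.comm_of_orth O.b3 O.c3 O.ib O.ic (fun p y hp hy => by rw [S.b_comm]; exact hw y hy p hp) x)

/-- the plane case -/
theorem beta [Finite V] (h : O.Split) (h4 : Nat.card O.Pa = 4) :
    ∃ n, S.q n = 1 ∧ O.r n = n ∧ O.a n = n ∧ O.b n = n ∧ O.c n = n ∧ Nat.card O.F = 64 ∧
      ∀ x, S.N O.r x = 0 → O.a x = x ∧ O.b x = x ∧ O.c x = x := by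
  classical
  obtain ⟨⟨u, hu, hu0, hall⟩, -⟩ | h16 := O.card_Pa h
  swap
  · omega
  -- the commuting element is trivial on the planes
  have hrPa : ∀ x ∈ O.Pa, O.r x = x :=
    S.trivial_on_four O.a3 O.r3 (s := O.t.trans O.t) hu hu0 (O.mem_Pa.mp hu) hall (fun x hx => O.Pa_r hx)
      (fun x hx => O.Pa_tt hx) O.ra O.rtt O.tta
  have hrPb : ∀ x, S.N O.b x = 0 → O.r x = x := fun x hx => by
    obtain ⟨y, hy, rfl⟩ := O.exists_of_Pb hx
    rw [O.rt, hrPa y hy]
  have hrPc : ∀ x, S.N O.c x = 0 → O.r x = x := fun x hx => by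
    obtain ⟨y, hy, rfl⟩ := O.exists_of_Pc hx
    rw [O.rk, hrPa y hy]
  have hW : ∀ x, S.N O.r x = 0 → O.a x = x ∧ O.b x = x ∧ O.c x = x := fun x hx =>
    ⟨S.fixed_of_perp O.a3 O.ia fun y hy => by rw [S.b_comm]; exact S.orth O.ir (hrPa y hy) hx,
      S.fixed_of_perp O.b3 O.ib fun y hy => by rw [S.b_comm]; exact S.orth O.ir (hrPb y hy) hx,
      S.fixed_of_perp O.c3 O.ic fun y hy => by rw [S.b_comm]; exact S.orth O.ir (hrPc y hy) hx⟩
  -- the common fixed vectors of the first two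
  have hsplit : ∀ {x x' y y' w w' : V}, O.a x = x → O.b x = x → O.a x' = x' → O.b x' = x' → y ∈ O.Pa → y' ∈ O.Pa →
      S.N O.b w = 0 → S.N O.b w' = 0 → x + y + w = x' + y' + w' → x = x' ∧ y = y' ∧ w = w' := by
    intro x x' y y' w w' hxa hxb hxa' hxb' hy hy' hw hw' e
    have e1 := congrArg (S.N O.a) e
    simp only [map_add] at e1
    rw [S.N_of_fixed hxa, S.N_of_fixed hxa', O.mem_Pa.mp hy, O.mem_Pa.mp hy', add_zero, add_zero,
      S.N_of_fixed (O.a_fix_Pb h hw), S.N_of_fixed (O.a_fix_Pb h hw')] at e1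
    have e2 := congrArg (S.N O.b) e1
    rw [map_add, map_add, hw, hw', add_zero, add_zero, S.N_of_fixed hxb, S.N_of_fixed hxb'] at e2
    have e3 : w = w' := add_left_cancel (e2 ▸ e1)
    exact ⟨e2, add_left_cancel (add_right_cancel (e2 ▸ e3 ▸ e)), e3⟩
  have hPb : ∀ {y}, y ∈ O.Pa → S.N O.b (O.t y) = 0 := fun hy => by rw [O.N_b, O.mem_Pa.mp hy, map_zero]
  obtain ⟨xr, hxr⟩ := O.rne
  have hW0 : (S.N O.r).ker.carrier.Nonempty := ⟨0, map_zero _⟩
  have hcW : Nat.card (S.N O.r).ker ≤ 16 := by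
    have hinj : Function.Injective fun p : ↥(S.N O.r).ker × ↥O.Pa × ↥O.Pa =>
        (p.1 : V) + (p.2.1 : V) + O.t (p.2.2 : V) := by
      rintro ⟨⟨x, hx⟩, ⟨y, hy⟩, ⟨w, hw⟩⟩ ⟨⟨x', hx'⟩, ⟨y', hy'⟩, ⟨w', hw'⟩⟩ e
      obtain ⟨e1, e2, e3⟩ := hsplit (hW x hx).1 (hW x hx).2.1 (hW x' hx').1 (hW x' hx').2.1 hy hy' (hPb hw)
        (hPb hw') e
      exact Prod.ext (Subtype.ext e1) (Prod.ext (Subtype.ext e2) (Subtype.ext (O.t.injective e3)))
    have hc := Nat.card_le_card_of_injective _ hinj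
    rw [Nat.card_prod, Nat.card_prod, h4, S.card] at hc
    omega
  have hcF : Nat.card (S.N O.r).ker * Nat.card O.F = 256 := by
    have hc := (S.N O.r).ker.card_mul_index
    rwa [AddSubgroup.index_ker, S.card] at hc
  have hW4 : Nat.card (S.N O.r).ker = 4 ∨ Nat.card (S.N O.r).ker = 16 := by
    rcases S.four_or_more O.r3 (S.N O.r).ker
      (fun x hx => by rw [AddMonoidHom.mem_ker, S.N_comm (fun _ => rfl), AddMonoidHom.mem_ker.mp hx, map_zero])
      (fun x hx => hx) (S.N_sub O.r3 xr) (fun e => hxr (S.eq_of_add e).symm) with ⟨-, h⟩ | h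
    exacts [Or.inl h, Or.inr (le_antisymm hcW h)]
  rcases hW4 with hW4 | hW16
  swap
  · exfalso
    rw [hW16] at hcF
    have hbij : Function.Bijective fun p : ↥O.Pa × ↥O.Pa =>
        (⟨(p.1 : V) + O.t (p.2 : V), O.mem_F.mpr (by rw [map_add, hrPa _ p.1.2, hrPb _ (hPb p.2.2)])⟩ : O.F) := by
      refine (Nat.bijective_iff_injective_and_card _).mpr ⟨?_, by rw [Nat.card_prod, h4]; omega⟩
      rintro ⟨⟨x, hx⟩, ⟨y, hy⟩⟩ ⟨⟨x', hx'⟩, ⟨y', hy'⟩⟩ e
      obtain ⟨e1, e2⟩ := O.sum_inj h hx hx' (hPb hy) (hPb hy') (congrArg Subtype.val e)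
      exact Prod.ext (Subtype.ext e1) (Subtype.ext (O.t.injective e2))
    refine O.no_common h hu hu0 hall (map_zero _) (map_zero _) S.q_zero fun y hy => ?_
    obtain ⟨⟨p, w⟩, hpw⟩ := hbij.2 ⟨y, O.mem_F.mpr (hrPc y hy)⟩
    exact ⟨p, O.t w, p.2, hPb w.2, Or.inl (congrArg Subtype.val hpw).symm⟩
  have hF64 : Nat.card O.F = 64 := by rw [hW4] at hcF; omega
  -- bases of the three planes
  obtain ⟨p, hp⟩ : ∃ p, p = O.t u := ⟨_, rfl⟩
  obtain ⟨f, hf⟩ : ∃ f, f = O.k u := ⟨_, rfl⟩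
  have hpN : S.N O.b p = 0 := hp ▸ hPb hu
  have hfN : S.N O.c f = 0 := by rw [hf, O.N_c, O.mem_Pa.mp hu, map_zero]
  have hp0 : p ≠ 0 := fun e => hu0 (O.t.injective ((hp ▸ e : O.t u = 0).trans (map_zero _).symm))
  have hf0 : f ≠ 0 := fun e => hu0 (O.k.injective ((hf ▸ e : O.k u = 0).trans (map_zero _).symm))
  have hallb : ∀ x, S.N O.b x = 0 → x = 0 ∨ x = p ∨ x = O.b p ∨ x = O.b (O.b p) := fun x hx => by
    obtain ⟨y, hy, rfl⟩ := O.exists_of_Pb hx
    rcases hall y hy with rfl | rfl | rfl | rfl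
    exacts [Or.inl (map_zero _), Or.inr (Or.inl hp.symm), Or.inr (Or.inr (Or.inl (by rw [hp, O.ta]))),
      Or.inr (Or.inr (Or.inr (by rw [hp, O.ta, O.ta])))]
  have hallc : ∀ x, S.N O.c x = 0 → x = 0 ∨ x = f ∨ x = O.c f ∨ x = O.c (O.c f) := fun x hx => by
    obtain ⟨y, hy, rfl⟩ := O.exists_of_Pc hx
    rcases hall y hy with rfl | rfl | rfl | rfl
    exacts [Or.inl (map_zero _), Or.inr (Or.inl hf.symm), Or.inr (Or.inr (Or.inl (by rw [hf, O.ka]))),
      Or.inr (Or.inr (Or.inr (by rw [hf, O.ka, O.ka])))]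
  obtain ⟨-, hbu⟩ := S.plane_q O.a3 O.ia (O.mem_Pa.mp hu) hu0 hall
  obtain ⟨-, hbp⟩ := S.plane_q O.b3 O.ib hpN hp0 hallb
  obtain ⟨-, hbf⟩ := S.plane_q O.c3 O.ic hfN hf0 hallc
  have hau : O.a u ∈ O.Pa := O.Pa_a hu
  have hbpN : S.N O.b (O.b p) = 0 := by rw [S.N_comm (fun _ => rfl), hpN, map_zero]
  let M : Gram.M2 := ((S.b u f, S.b u (O.c f)), (S.b (O.a u) f, S.b (O.a u) (O.c f)))
  let N : Gram.M2 := ((S.b p f, S.b p (O.c f)), (S.b (O.b p) f, S.b (O.b p) (O.c f)))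
  let Φ : Gram.Six → V := fun x =>
    sc x.1 u + sc x.2.1 (O.a u) + sc x.2.2.1 p + sc x.2.2.2.1 (O.b p) + sc x.2.2.2.2.1 f + sc x.2.2.2.2.2 (O.c f)
  let T : V → Gram.Six := fun y => (S.b y u, S.b y (O.a u), S.b y p, S.b y (O.b p), S.b y f, S.b y (O.c f))
  have hΦb : ∀ x y, S.b y (Φ x) = Gram.dot x (T y) := by
    rintro ⟨x1, x2, x3, x4, x5, x6⟩ y
    simp only [Φ, T, Gram.dot, S.b_add_right, S.b_sc]
  have hTΦ : ∀ x, T (Φ x) = Gram.form M N x := by
    rintro ⟨x1, x2, x3, x4, x5, x6⟩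
    have e : ∀ m, S.b (Φ (x1, x2, x3, x4, x5, x6)) m =
        x1 * S.b u m + x2 * S.b (O.a u) m + x3 * S.b p m + x4 * S.b (O.b p) m + x5 * S.b f m + x6 * S.b (O.c f) m :=
      fun m => by
        rw [S.b_comm]
        simp only [Φ, S.b_add_right, S.b_sc]
        rw [S.b_comm m u, S.b_comm m (O.a u), S.b_comm m p, S.b_comm m (O.b p), S.b_comm m f, S.b_comm m (O.c f)]
    simp only [T, e, Gram.form, M, N]
    rw [S.b_self, S.b_self, S.b_self, S.b_self, S.b_self, S.b_self, S.b_comm (O.a u) u, hbu, S.b_comm (O.b p) p,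
      hbp, S.b_comm (O.c f) f, hbf, O.Pa_Pb h hu hpN, O.Pa_Pb h hu hbpN, O.Pa_Pb h hau hpN, O.Pa_Pb h hau hbpN,
      S.b_comm p u, O.Pa_Pb h hu hpN, S.b_comm p (O.a u), O.Pa_Pb h hau hpN, S.b_comm (O.b p) u,
      O.Pa_Pb h hu hbpN, S.b_comm (O.b p) (O.a u), O.Pa_Pb h hau hbpN, S.b_comm f u, S.b_comm f (O.a u),
      S.b_comm f p, S.b_comm f (O.b p), S.b_comm (O.c f) u, S.b_comm (O.c f) (O.a u), S.b_comm (O.c f) p,
      S.b_comm (O.c f) (O.b p)]
    simp only [mul_zero, mul_one, add_zero, zero_add, Prod.mk.injEq]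
    refine ⟨?_, ?_, ?_, ?_, ?_, ?_⟩ <;> ring
  have hfa : ∀ x, Φ (Gram.fa M x) = O.a (Φ x) := fun x => by
    rw [S.plane_formula O.a3 O.ia (O.mem_Pa.mp hu) hu0 hall (Φ x)]
    have e1 := congrArg Prod.fst (hTΦ x)
    have e2 := congrArg (fun z => z.2.1) (hTΦ x)
    obtain ⟨x1, x2, x3, x4, x5, x6⟩ := x
    simp only [T, Gram.form] at e1 e2
    rw [e1, e2]
    simp only [Φ, Gram.fa, S.sc_add]
    abel
  have hfb : ∀ x, Φ (Gram.fb N x) = O.b (Φ x) := fun x => by
    rw [S.plane_formula O.b3 O.ib hpN hp0 hallb (Φ x)]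
    have e1 := congrArg (fun z => z.2.2.1) (hTΦ x)
    have e2 := congrArg (fun z => z.2.2.2.1) (hTΦ x)
    obtain ⟨x1, x2, x3, x4, x5, x6⟩ := x
    simp only [T, Gram.form] at e1 e2
    rw [e1, e2]
    simp only [Φ, Gram.fb, S.sc_add]
    abel
  have hfc : ∀ x, Φ (Gram.fc M N x) = O.c (Φ x) := fun x => by
    rw [S.plane_formula O.c3 O.ic hfN hf0 hallc (Φ x)]
    have e1 := congrArg (fun z => z.2.2.2.2.1) (hTΦ x)
    have e2 := congrArg (fun z => z.2.2.2.2.2) (hTΦ x)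
    obtain ⟨x1, x2, x3, x4, x5, x6⟩ := x
    simp only [T, Gram.form] at e1 e2
    rw [e1, e2]
    simp only [Φ, Gram.fc, S.sc_add]
    abel
  obtain ⟨x, hx0, hx⟩ := Gram.exists_rad (M := M) (N := N)
    (fun i => by rw [← hTΦ, ← hTΦ, hfa, hfc, hfa, hfc, O.ac])
    (fun i => by rw [← hTΦ, ← hTΦ, hfb, hfc, hfb, hfc, hfb, hfc, hfb, hfc, hfb, hfc, O.bc])
  -- a fixed vector orthogonal to the three planes
  obtain ⟨n, hnF, hn0, hnT⟩ : ∃ n ∈ O.F, n ≠ 0 ∧ T n = (0, 0, 0, 0, 0, 0) := by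
    by_cases hΦ : Φ x = 0
    · by_contra hno
      push Not at hno
      have hinj : Function.Injective fun y : O.F => T (y : V) := by
        rintro ⟨y, hy⟩ ⟨y', hy'⟩ e
        refine Subtype.ext (S.eq_of_add ?_)
        by_contra hne
        refine hno (y + y') (O.F.add_mem hy hy') hne ?_
        simp only [T, Prod.mk.injEq] at e ⊢
        obtain ⟨e1, e2, e3, e4, e5, e6⟩ := e
        simp only [S.b_add_left, e1, e2, e3, e4, e5, e6, CharTwo.add_self_eq_zero, and_self]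
      have hbij := (Nat.bijective_iff_injective_and_card _).mpr ⟨hinj, by
        rw [hF64]; simp [Nat.card_eq_fintype_card, ZMod.card]⟩
      obtain ⟨i, hi⟩ := Gram.exists_dot x hx0
      obtain ⟨y, hy⟩ := hbij.2 (Gram.basis i)
      have := hΦb x (y : V)
      rw [hΦ, S.b_zero_right, show T (y : V) = Gram.basis i from hy, hi] at this
      exact one_ne_zero this.symm
    · refine ⟨Φ x, O.mem_F.mpr ?_, hΦ, by rw [hTΦ, hx]⟩
      have hsc : ∀ (e : ZMod 2) {v : V}, O.r v = v → O.r (sc e v) = sc e v := fun e v hv => by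
        rcases S.zero_or_one e with rfl | rfl
        · rw [S.sc_zero, map_zero]
        · rw [S.sc_one, hv]
      simp only [Φ, map_add, hsc _ (hrPa u hu), hsc _ (hrPa _ hau), hsc _ (hrPb p hpN), hsc _ (hrPb _ hbpN),
        hsc _ (hrPc f hfN), hsc _ (hrPc (O.c f) (by rw [S.N_comm (fun _ => rfl), hfN, map_zero]))]
  simp only [T, Prod.mk.injEq] at hnT
  obtain ⟨n1, n2, n3, n4, n5, n6⟩ := hnT
  have hplane : ∀ {g : V ≃+ V} {v : V}, (∀ x, g (g (g x)) = x) → S.IsIso g → S.N g v = 0 →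
      (∀ x, S.N g x = 0 → x = 0 ∨ x = v ∨ x = g v ∨ x = g (g v)) → S.b n v = 0 → S.b n (g v) = 0 → g n = n := by
    intro g v hg hig hv hgall h1 h2
    refine S.fixed_of_perp hg hig fun y hy => ?_
    rcases hgall y hy with rfl | rfl | rfl | rfl
    exacts [S.b_zero_right n, h1, h2, by rw [S.rot hv, S.b_add_right, h1, h2, add_zero]]
  have hna := hplane O.a3 O.ia (O.mem_Pa.mp hu) hall n1 n2
  have hnb := hplane O.b3 O.ib hpN hallb n3 n4
  have hnc := hplane O.c3 O.ic hfN hallc n5 n6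
  refine ⟨n, ?_, O.mem_F.mp hnF, hna, hnb, hnc, hF64, hW⟩
  -- it is nonsingular
  refine (S.zero_or_one _).resolve_left fun hq => O.no_common h hu hu0 hall hna hnb hq fun y hy => ?_
  obtain ⟨z, hz⟩ : ∃ z, z = S.N O.b (S.N O.a y) := ⟨_, rfl⟩
  have hzb : O.b z = z := hz ▸ S.fix_N O.b3 _
  have hza : O.a z = z := by rw [hz, ← S.N_comm (fun x => (O.ab x).symm), S.fix_N O.a3]
  have hyr := hrPc y hy
  have hzr : O.r z = z := by
    rw [hz, ← S.N_comm (fun x => (O.rb x).symm), ← S.N_comm (fun x => (O.ra x).symm), hyr]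
  have hw1 : y + S.N O.a y ∈ O.Pa := S.N_moved_part O.a3 y
  have hw2 : S.N O.b (S.N O.a y + z) = 0 := hz ▸ S.N_moved_part O.b3 _
  have hsum : y + S.N O.a y + (S.N O.a y + z) + z = y := by
    rw [show y + S.N O.a y + (S.N O.a y + z) + z = y + (S.N O.a y + S.N O.a y) + (z + z) by abel, S.self_add,
      S.self_add, add_zero, add_zero]
  have hnz : S.b n z = 0 := by
    have e : S.b n y = 0 := S.orth O.ic hnc hy
    rw [← hsum, S.b_add_right, S.b_add_right, S.orth O.ia hna (O.mem_Pa.mp hw1), S.orth O.ib hnb hw2, zero_add,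
      zero_add] at e
    exact e
  have hz0 : z = 0 ∨ z = n := by
    by_contra hne
    push Not at hne
    obtain ⟨hz0, hzn⟩ := hne
    refine hn0 (S.eq_zero fun v => ?_)
    obtain ⟨F0, hF0⟩ : ∃ F0 : Set V, F0 = {v | O.r v = v ∧ O.a v = v ∧ O.b v = v} := ⟨_, rfl⟩
    have hle : F0.ncard ≤ 4 := by
      have hinj : Function.Injective fun p : ↥F0 × ↥O.Pa × ↥O.Pa =>
          (⟨(p.1 : V) + (p.2.1 : V) + O.t (p.2.2 : V), O.mem_F.mpr (by
            rw [map_add, map_add, (hF0 ▸ p.1.2 : (p.1 : V) ∈ {v | O.r v = v ∧ O.a v = v ∧ O.b v = v}).1,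
              hrPa _ p.2.1.2, hrPb _ (hPb p.2.2.2)])⟩ : O.F) := by
        rintro ⟨⟨x, hx⟩, ⟨y, hy⟩, ⟨w, hw⟩⟩ ⟨⟨x', hx'⟩, ⟨y', hy'⟩, ⟨w', hw'⟩⟩ e
        have hx1 : x ∈ {v | O.r v = v ∧ O.a v = v ∧ O.b v = v} := hF0 ▸ hx
        have hx2 : x' ∈ {v | O.r v = v ∧ O.a v = v ∧ O.b v = v} := hF0 ▸ hx'
        obtain ⟨e1, e2, e3⟩ := hsplit hx1.2.1 hx1.2.2 hx2.2.1 hx2.2.2 hy hy' (hPb hw) (hPb hw')
          (congrArg Subtype.val e)
        exact Prod.ext (Subtype.ext e1) (Prod.ext (Subtype.ext e2) (Subtype.ext (O.t.injective e3)))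
      have hc := Nat.card_le_card_of_injective _ hinj
      rw [Nat.card_prod, Nat.card_prod, h4, hF64, Nat.card_coe_set_eq] at hc
      omega
    have hset : F0 = ↑({0, n, z, n + z} : Finset V) := by
      refine (Set.eq_of_subset_of_ncard_le ?_ ?_).symm
      · intro v hv
        simp only [Finset.coe_insert, Finset.coe_singleton, Set.mem_insert_iff, Set.mem_singleton_iff] at hv
        rw [hF0]
        rcases hv with rfl | rfl | rfl | rfl
        · exact ⟨map_zero _, map_zero _, map_zero _⟩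
        · exact ⟨O.mem_F.mp hnF, hna, hnb⟩
        · exact ⟨hzr, hza, hzb⟩
        · exact ⟨by rw [map_add, O.mem_F.mp hnF, hzr], by rw [map_add, hna, hza], by rw [map_add, hnb, hzb]⟩
      · rw [Set.ncard_coe_finset]
        have h1 : n + z ≠ 0 := fun e => hzn (S.eq_of_add e).symm
        have h2 : n + z ≠ n := fun e => hz0 (add_eq_left.mp e)
        have h3 : n + z ≠ z := fun e => hn0 (add_eq_right.mp e)
        have : ({0, n, z, n + z} : Finset V).card = 4 := by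
          simp [Ne.symm hn0, Ne.symm hz0, Ne.symm hzn, Ne.symm h1, Ne.symm h2, Ne.symm h3]
        omega
    obtain ⟨g, hg⟩ : ∃ g, g = S.N O.r v := ⟨_, rfl⟩
    have hgF : O.r g = g := hg ▸ S.fix_N O.r3 v
    obtain ⟨w, hw⟩ : ∃ w, w = S.N O.b (S.N O.a g) := ⟨_, rfl⟩
    have hwF : w ∈ F0 := by
      rw [hF0, hw]
      refine ⟨?_, ?_, S.fix_N O.b3 _⟩
      · rw [← S.N_comm (fun x => (O.rb x).symm), ← S.N_comm (fun x => (O.ra x).symm), hgF]
      · rw [← S.N_comm (fun x => (O.ab x).symm), S.fix_N O.a3]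
    have hnw : S.b n w = 0 := by
      rw [hset] at hwF
      simp only [Finset.coe_insert, Finset.coe_singleton, Set.mem_insert_iff, Set.mem_singleton_iff] at hwF
      rcases hwF with e | e | e | e <;> rw [e]
      exacts [S.b_zero_right n, S.b_self n, hnz, by rw [S.b_add_right, S.b_self, hnz, add_zero]]
    have hdec : v = v + g + (g + S.N O.a g + (S.N O.a g + w) + w) := by
      rw [show v + g + (g + S.N O.a g + (S.N O.a g + w) + w) =
        v + (g + g) + (S.N O.a g + S.N O.a g) + (w + w) by abel, S.self_add, S.self_add, S.self_add, add_zero,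
        add_zero, add_zero]
    have t1 : S.b n (v + g) = 0 := S.orth O.ir (O.mem_F.mp hnF) (hg ▸ S.N_moved_part O.r3 v)
    have t2 : S.b n (g + S.N O.a g) = 0 := S.orth O.ia hna (S.N_moved_part O.a3 g)
    have t3 : S.b n (S.N O.a g + w) = 0 := S.orth O.ib hnb (hw ▸ S.N_moved_part O.b3 _)
    rw [hdec, S.b_add_right n (v + g), S.b_add_right n _ w, S.b_add_right n (g + S.N O.a g), t1, t2, t3, hnw]
    simp only [add_zero]
  refine ⟨_, _, hw1, hw2, ?_⟩
  rcases hz0 with e | e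
  · left
    conv_lhs => rw [← hsum]
    rw [e, add_zero, add_zero]
  · right
    conv_lhs => rw [← hsum]
    rw [e]

end Ops

end Cfsg.Agent.Spor.ExtraS3A6
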