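import Cfsg.Agent.Lib.Spor.ExtraS3A6.Decomp.Space

/-!
Five isometries satisfying the relations of a generating system, beside a commuting one of order three.
-/

set_option autoImplicit false
set_option linter.unusedSectionVars false

namespace Cfsg.Agent.Spor.ExtraS3A6

universe u

/-- the operators -/
structure Ops {V : Type u} [AddCommGroup V] (S : Space V) where
  a : V ≃+ V
  b : V ≃+ V
  c : V ≃+ V
  t : V ≃+ V
  k : V ≃+ V
  r : V ≃+ V
  ia : S.IsIso a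
  ib : S.IsIso b
  ic : S.IsIso c
  it : S.IsIso t
  ik : S.IsIso k
  ir : S.IsIso r
  a3 : ∀ x, a (a (a x)) = x
  b3 : ∀ x, b (b (b x)) = x
  c3 : ∀ x, c (c (c x)) = x
  r3 : ∀ x, r (r (r x)) = x
  t4 : ∀ x, t (t (t (t x))) = x
  ab : ∀ x, a (b x) = b (a x)
  ta : ∀ x, t (a x) = b (t x)
  tb : ∀ x, t (b x) = a (a (t x))
  ka : ∀ x, k (a x) = c (k x)
  vc : ∀ x, c (b (b (t (t (c x))))) = b (b (t (t x)))
  ac : ∀ x, a (c (a (c x))) = x
  bc : ∀ x, b (c (b (c (b (c (b (c (b (c x))))))))) = x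
  ct : ∀ x, c (t (c (t x))) = x
  ane : ∃ x, a x ≠ x
  acne : ∃ x, a (c x) ≠ c (a x)
  bcne : ∃ x, b (c x) ≠ c (b x)
  ra : ∀ x, r (a x) = a (r x)
  rb : ∀ x, r (b x) = b (r x)
  rc : ∀ x, r (c x) = c (r x)
  rt : ∀ x, r (t x) = t (r x)
  rk : ∀ x, r (k x) = k (r x)
  rne : ∃ x, r x ≠ x

namespace Ops

variable {V : Type u} [AddCommGroup V] {S : Space V} (O : Ops S)
include O

theorem tta (x : V) : O.t (O.t (O.a x)) = O.a (O.a (O.t (O.t x))) := by rw [O.ta, O.tb]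

theorem ttb (x : V) : O.t (O.t (O.b x)) = O.b (O.b (O.t (O.t x))) := by rw [O.tb, O.ta, O.ta]

theorem rtt (x : V) : O.t (O.t (O.r x)) = O.r (O.t (O.t x)) := by rw [O.rt, O.rt]

/-- the moved part of the first -/
def Pa : AddSubgroup V := (S.N O.a).ker

theorem mem_Pa {x : V} : x ∈ O.Pa ↔ S.N O.a x = 0 := Iff.rfl

theorem Pa_a {x : V} (hx : x ∈ O.Pa) : O.a x ∈ O.Pa := by
  rw [mem_Pa, S.N_comm (fun _ => rfl), O.mem_Pa.mp hx, map_zero]

theorem Pa_r {x : V} (hx : x ∈ O.Pa) : O.r x ∈ O.Pa := by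
  rw [mem_Pa, S.N_comm (fun y => (O.ra y).symm), O.mem_Pa.mp hx, map_zero]

theorem Pa_tt {x : V} (hx : x ∈ O.Pa) : O.t (O.t x) ∈ O.Pa := by
  rw [mem_Pa]
  have e : S.N O.a (O.t (O.t x)) = O.t (O.t (S.N O.a x)) := by
    simp only [Space.N_apply, map_add, O.tta, O.a3]
    abel
  rw [e, O.mem_Pa.mp hx, map_zero, map_zero]

theorem N_b (x : V) : S.N O.b (O.t x) = O.t (S.N O.a x) := by
  simp only [Space.N_apply, map_add, O.ta]

theorem N_c (x : V) : S.N O.c (O.k x) = O.k (S.N O.a x) := by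
  simp only [Space.N_apply, map_add, O.ka]

theorem exists_Pa : ∃ u ∈ O.Pa, u ≠ 0 := by
  obtain ⟨x, hx⟩ := O.ane
  exact ⟨x + O.a x, S.N_sub O.a3 x, fun e => hx (S.eq_of_add e).symm⟩

/-- the moved part of the second -/
theorem exists_of_Pb {x : V} (hx : S.N O.b x = 0) : ∃ y ∈ O.Pa, O.t y = x :=
  ⟨O.t (O.t (O.t x)), O.t.injective (by rw [map_zero, ← O.N_b, O.t4, hx]), O.t4 x⟩

theorem exists_of_Pc {x : V} (hx : S.N O.c x = 0) : ∃ y ∈ O.Pa, O.k y = x :=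
  ⟨O.k.symm x, O.k.injective (by rw [map_zero, ← O.N_c, AddEquiv.apply_symm_apply, hx]),
    AddEquiv.apply_symm_apply _ _⟩

/-- the first kind of weights -/
def Split (O : Ops S) : Prop := ∀ x ∈ O.Pa, O.b x = x

theorem a_fix_Pb (h : O.Split) {x : V} (hx : S.N O.b x = 0) : O.a x = x := by
  obtain ⟨y, hy, rfl⟩ := O.exists_of_Pb hx
  have e : O.t (O.b y) = O.t y := congrArg O.t (h y hy)
  rw [O.tb] at e
  calc O.a (O.t y) = O.a (O.a (O.a (O.t y))) := by rw [e]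
    _ = O.t y := O.a3 _

theorem Pa_Pb (h : O.Split) {x y : V} (hx : x ∈ O.Pa) (hy : S.N O.b y = 0) : S.b x y = 0 :=
  S.orth O.ib (h x hx) hy

/-- the sum of the moved parts of the first two -/
theorem sum_inj (h : O.Split) {x x' y y' : V} (hx : x ∈ O.Pa) (hx' : x' ∈ O.Pa) (hy : S.N O.b y = 0)
    (hy' : S.N O.b y' = 0) (e : x + y = x' + y') : x = x' ∧ y = y' := by
  have e' := congrArg (S.N O.b) e
  rw [map_add, map_add, hy, hy', add_zero, add_zero, S.N_of_fixed (h x hx), S.N_of_fixed (h x' hx')] at e'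
  exact ⟨e', add_left_cancel (e' ▸ e)⟩

/-- the moved part has four or sixteen elements -/
theorem card_Pa [Finite V] (h : O.Split) :
    (∃ u ∈ O.Pa, u ≠ 0 ∧ ∀ x ∈ O.Pa, x = 0 ∨ x = u ∨ x = O.a u ∨ x = O.a (O.a u)) ∧ Nat.card O.Pa = 4 ∨
      Nat.card O.Pa = 16 := by
  obtain ⟨u, hu, hu0⟩ := O.exists_Pa
  rcases S.four_or_more O.a3 O.Pa (fun x hx => O.Pa_a hx) (fun x hx => O.mem_Pa.mp hx) hu hu0 with ⟨hall, h4⟩ | h16
  · exact Or.inl ⟨⟨u, hu, hu0, hall⟩, h4⟩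
  · right
    have hinj : Function.Injective fun p : ↥O.Pa × ↥O.Pa => (p.1 : V) + O.t (p.2 : V) := by
      rintro ⟨⟨x, hx⟩, ⟨y, hy⟩⟩ ⟨⟨x', hx'⟩, ⟨y', hy'⟩⟩ e
      obtain ⟨e1, e2⟩ := O.sum_inj h hx hx' (by rw [O.N_b, O.mem_Pa.mp hy, map_zero])
        (by rw [O.N_b, O.mem_Pa.mp hy', map_zero]) e
      exact Prod.ext (Subtype.ext e1) (Subtype.ext (O.t.injective e2))
    have hc := Nat.card_le_card_of_injective _ hinj
    rw [Nat.card_prod, S.card] at hc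
    nlinarith

/-- commuting isometries with orthogonal moved parts -/
theorem comm_of_orth {f g : V ≃+ V} (hf : ∀ x, f (f (f x)) = x) (hg : ∀ x, g (g (g x)) = x) (hif : S.IsIso f)
    (hig : S.IsIso g) (h : ∀ x y, S.N f x = 0 → S.N g y = 0 → S.b x y = 0) (x : V) : f (g x) = g (f x) := by
  have h1 : f (x + g x) = x + g x :=
    S.fixed_of_perp hf hif fun y hy => by rw [S.b_comm]; exact h y _ hy (S.N_sub hg x)
  have h2 : g (x + f x) = x + f x := S.fixed_of_perp hg hig fun y hy => h _ y (S.N_sub hf x) hy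
  rw [map_add] at h1 h2
  have e1 : f (g x) = x + g x + f x := by
    calc f (g x) = f x + f (g x) + f x := by rw [add_comm, S.add_cancel]
      _ = x + g x + f x := by rw [h1]
  have e2 : g (f x) = x + f x + g x := by
    calc g (f x) = g x + g (f x) + g x := by rw [add_comm, S.add_cancel]
      _ = x + f x + g x := by rw [h2]
  rw [e1, e2, add_right_comm]

end Ops

end Cfsg.Agent.Spor.ExtraS3A6
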