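import Mathlib.GroupTheory.Perm.Sign
import Mathlib.GroupTheory.SpecificGroups.Alternating
import Mathlib.GroupTheory.SpecificGroups.Alternating.Simple
import Mathlib.GroupTheory.Sylow
import Mathlib.GroupTheory.NoncommCoprod
import Mathlib.Algebra.CharP.Two
import Mathlib.Algebra.Module.Pi
import Mathlib.Data.ZMod.Basic
import Mathlib.Data.Fintype.Perm
import Mathlib.Data.Fintype.Pi
import Mathlib.Algebra.Group.Subgroup.Finite
import Mathlib.Tactic.FinCases
import Mathlib.Tactic.Abel
import Mathlib.Tactic.NormNum.Prime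
import Mathlib.Tactic.Linarith
import Mathlib.Tactic.IntervalCases
import Mathlib.Tactic.Group
import Mathlib.Tactic.NormNum.DivMod

/-!
The even subsets of six points modulo the whole set, and two generating systems of the alternating group.
-/

set_option autoImplicit false
set_option maxRecDepth 100000
set_option linter.unusedSectionVars false

namespace Cfsg.Agent.Spor.ExtraS3A6

open Equiv

/-- even subsets of six points modulo the whole set -/
abbrev Pm : Type := Fin 4 → ZMod 2

/-- the representative not containing the last point -/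
def lift (x : Pm) : Fin 6 → ZMod 2 := ![x 0, x 1, x 2, x 3, x 0 + x 1 + x 2 + x 3, 0]

/-- the class of a subset -/
def norm (y : Fin 6 → ZMod 2) : Pm := fun k => y (Fin.castLE (by norm_num) k) + y 5

/-- the parity of the intersection -/
def pB (x y : Pm) : ZMod 2 :=
  x 0 * y 0 + x 1 * y 1 + x 2 * y 2 + x 3 * y 3 + (x 0 + x 1 + x 2 + x 3) * (y 0 + y 1 + y 2 + y 3)

theorem lift_add (x y : Pm) : lift (x + y) = lift x + lift y := by
  funext i
  fin_cases i <;> simp [lift] <;> abel

theorem norm_add (x y : Fin 6 → ZMod 2) : norm (x + y) = norm x + norm y := by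
  funext k
  simp only [norm, Pi.add_apply]
  abel

theorem norm_lift : ∀ x : Pm, norm (lift x) = x := by decide +kernel

theorem lift_sum : ∀ x : Pm, ∑ i, lift x i = 0 := by decide +kernel

theorem lift_norm {y : Fin 6 → ZMod 2} (h : ∑ i, y i = 0) : lift (norm y) = fun i => y i + y 5 := by
  have key : ∀ a b c d e f : ZMod 2, a + b + c + d + e + f = 0 →
      a + f + (b + f) + (c + f) + (d + f) = e + f := by decide
  rw [Fin.sum_univ_six] at h
  funext i
  fin_cases i <;> simp [lift, norm, CharTwo.add_self_eq_zero]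
  all_goals first
    | rfl
    | exact key _ _ _ _ _ _ h

/-- the permutation action -/
def pm (g : Perm (Fin 6)) (x : Pm) : Pm := norm fun i => lift x (g⁻¹ i)

theorem pm_add (g : Perm (Fin 6)) (x y : Pm) : pm g (x + y) = pm g x + pm g y := by
  rw [pm, pm, pm, ← norm_add, lift_add]
  rfl

theorem pm_one (x : Pm) : pm 1 x = x := by
  rw [pm, inv_one]
  exact norm_lift x

theorem pm_mul (g h : Perm (Fin 6)) (x : Pm) : pm (g * h) x = pm g (pm h x) := by
  have hs : ∑ i, lift x (h⁻¹ i) = 0 := by rw [Equiv.sum_comp h⁻¹ (lift x)]; exact lift_sum x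
  rw [pm, pm, pm, lift_norm hs]
  funext k
  simp only [norm, mul_inv_rev, Perm.mul_apply]
  generalize lift x (h⁻¹ (g⁻¹ (Fin.castLE _ k))) = p, lift x (h⁻¹ (g⁻¹ 5)) = r, lift x (h⁻¹ 5) = s
  revert p r s
  decide

/-- the action as additive bijections -/
def pact (g : Perm (Fin 6)) : Pm ≃+ Pm where
  toFun := pm g
  invFun := pm g⁻¹
  left_inv x := by rw [← pm_mul, inv_mul_cancel, pm_one]
  right_inv x := by rw [← pm_mul, mul_inv_cancel, pm_one]
  map_add' := pm_add g

theorem pact_apply (g : Perm (Fin 6)) (x : Pm) : pact g x = pm g x := rfl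

theorem pact_mul (g h : Perm (Fin 6)) (x : Pm) : pact (g * h) x = pact g (pact h x) := pm_mul g h x

/-- the action is faithful on the alternating group -/
theorem pact_faithful_basis : ∀ g : alternatingGroup (Fin 6),
    (∀ k : Fin 4, pm (g : Perm (Fin 6)) (Pi.single k 1) = Pi.single k 1) → g = 1 := by
  decide +kernel

theorem pact_faithful (g : alternatingGroup (Fin 6)) (h : ∀ x, pm (g : Perm (Fin 6)) x = x) : g = 1 :=
  pact_faithful_basis g fun _ => h _

/-- three-cycles and the other elements -/
abbrev A6 : Type := ↥(alternatingGroup (Fin 6))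

/-- a permutation given by its list of images -/
def ofList (f g : Fin 6 → Fin 6) (h : ∀ i, g (f i) = i := by decide) (h' : ∀ i, f (g i) = i := by decide) :
    Perm (Fin 6) := ⟨f, g, h, h'⟩

/-- a generating system with its relations -/
structure Gens where
  a : A6
  b : A6
  c : A6
  t : A6
  k : A6
  a3 : a * a * a = 1
  b3 : b * b * b = 1
  c3 : c * c * c = 1
  t4 : t * t * t * t = 1
  ab : a * b = b * a
  ta : t * a = b * t
  tb : t * b = a * a * t
  ka : k * a = c * k
  vc : c * (b * b * (t * t)) * c = b * b * (t * t)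
  ac : a * c * (a * c) = 1
  bc : b * c * (b * c) * (b * c) * (b * c) * (b * c) = 1
  ct : c * t * (c * t) = 1
  ane : a ≠ 1
  acne : a * c ≠ c * a
  bcne : b * c ≠ c * b
  gen : Subgroup.closure ({a, b, c} : Set A6) = ⊤

theorem card_A6 : Nat.card A6 = 360 := by
  rw [nat_card_alternatingGroup, Nat.card_eq_fintype_card, Fintype.card_fin]
  rfl

/-- two commuting elements of order three and one of order five not centralised by the first generate -/
theorem gen_of {a b c : A6} (a3 : a * a * a = 1) (b3 : b * b * b = 1) (ab : a * b = b * a) (ane : a ≠ 1)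
    (bne : b ≠ 1) (bna : b ≠ a) (bna2 : b ≠ a * a)
    (bc : b * c * (b * c) * (b * c) * (b * c) * (b * c) = 1) (bc1 : b * c ≠ 1) (abc : a * (b * c) ≠ b * c * a) :
    Subgroup.closure ({a, b, c} : Set A6) = ⊤ := by
  classical
  obtain ⟨H, hH⟩ : ∃ H, H = Subgroup.closure ({a, b, c} : Set A6) := ⟨_, rfl⟩
  rw [← hH]
  have haH : a ∈ H := hH ▸ Subgroup.subset_closure (by simp)
  have hbH : b ∈ H := hH ▸ Subgroup.subset_closure (by simp)
  have hyH : b * c ∈ H := H.mul_mem hbH (hH ▸ Subgroup.subset_closure (by simp))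
  haveI : Fact (Nat.Prime 5) := ⟨by norm_num⟩
  have h3 : ∀ {x : A6}, x * x * x = 1 → x ≠ 1 → orderOf x = 3 := fun h h1 =>
    orderOf_eq_prime (by rw [pow_succ, pow_two]; exact h) h1
  have h5 : orderOf (b * c) = 5 := orderOf_eq_prime (by simp only [pow_succ, pow_zero, one_mul]; exact bc) bc1
  have hza : ∀ {x}, x ∈ Subgroup.zpowers a → x = 1 ∨ x = a ∨ x = a * a := by
    intro x hx
    obtain ⟨k, hk⟩ := (mem_powers_iff_mem_zpowers (x := a)).mpr hx
    simp only at hk
    rw [← pow_mod_orderOf, h3 a3 ane] at hk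
    have hlt : k % 3 < 3 := Nat.mod_lt _ (by norm_num)
    generalize k % 3 = m at hk hlt
    interval_cases m
    · exact Or.inl (hk.symm.trans (pow_zero a))
    · exact Or.inr (Or.inl (hk.symm.trans (pow_one a)))
    · exact Or.inr (Or.inr (hk.symm.trans (pow_two a)))
  have hdis : Disjoint (Subgroup.zpowers a) (Subgroup.zpowers b) := by
    rw [Subgroup.disjoint_def]
    intro x hxa hxb
    by_contra hx
    have hb : b ∈ Subgroup.zpowers a := by
      have hle : Subgroup.zpowers x = Subgroup.zpowers b := by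
        refine Subgroup.eq_of_le_of_card_ge (Subgroup.zpowers_le.mpr hxb) ?_
        rw [Nat.card_zpowers, Nat.card_zpowers, h3 b3 bne]
        rcases hza hxa with e | e | e
        · exact absurd e hx
        · rw [e, h3 a3 ane]
        · rw [e, h3 (by rw [show a * a * (a * a) * (a * a) = a * a * a * (a * a * a) by group, a3, one_mul]) (e ▸ hx)]
      exact (Subgroup.zpowers_le.mpr hxa) (hle ▸ Subgroup.mem_zpowers b)
    rcases hza hb with e | e | e
    exacts [bne e, bna e, bna2 e]
  have h9 : 9 ∣ Nat.card H := by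
    let φ : ↥(Subgroup.zpowers a) × ↥(Subgroup.zpowers b) →* A6 :=
      MonoidHom.noncommCoprod (Subgroup.zpowers a).subtype (Subgroup.zpowers b).subtype fun x y => by
        obtain ⟨i, hi⟩ := Subgroup.mem_zpowers_iff.mp x.2
        obtain ⟨j, hj⟩ := Subgroup.mem_zpowers_iff.mp y.2
        show Commute (x : A6) (y : A6)
        rw [← hi, ← hj]
        exact Commute.zpow_zpow ab i j
    have hinj : Function.Injective φ := by
      refine (injective_iff_map_eq_one φ).mpr fun ⟨x, y⟩ h => ?_
      have h' : (x : A6) * (y : A6) = 1 := h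
      have hx : (x : A6) = 1 := Subgroup.disjoint_def.mp hdis x.2
        (eq_inv_of_mul_eq_one_left h' ▸ (Subgroup.zpowers b).inv_mem y.2)
      rw [hx, one_mul] at h'
      exact Prod.ext (Subtype.ext hx) (Subtype.ext h')
    have hle : φ.range ≤ H := by
      rintro _ ⟨⟨x, y⟩, rfl⟩
      exact H.mul_mem (Subgroup.zpowers_le.mpr haH x.2) (Subgroup.zpowers_le.mpr hbH y.2)
    have := Subgroup.card_dvd_of_le hle
    rwa [← Nat.card_congr (MonoidHom.ofInjective hinj).toEquiv, Nat.card_prod, Nat.card_zpowers, Nat.card_zpowers,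
      h3 a3 ane, h3 b3 bne] at this
  have h5d : 5 ∣ Nat.card H := by
    rw [← h5, ← Nat.card_zpowers]
    exact Subgroup.card_dvd_of_le (Subgroup.zpowers_le.mpr hyH)
  have hmul := H.card_mul_index
  rw [card_A6] at hmul
  have h45 : 45 ∣ Nat.card H := Nat.Coprime.mul_dvd_of_dvd_of_dvd (by norm_num) h9 h5d
  obtain ⟨m, hm⟩ := h45
  have hidx : m * H.index = 8 := by rw [hm] at hmul; nlinarith
  by_contra hne
  have hidx1 : H.index ≠ 1 := fun e => hne (Subgroup.index_eq_one.mp e)
  haveI : IsSimpleGroup A6 := alternatingGroup.isSimpleGroup (by simp)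
  have hsmall : H.index ≤ 4 → False := by
    intro hle
    haveI := Fintype.ofFinite (A6 ⧸ H)
    let ψ : A6 →* Equiv.Perm (A6 ⧸ H) := MulAction.toPermHom A6 (A6 ⧸ H)
    rcases (inferInstance : ψ.ker.Normal).eq_bot_or_eq_top with h | h
    · have hinj := (MonoidHom.ker_eq_bot_iff ψ).mp h
      have hc := Nat.card_le_card_of_injective ψ hinj
      rw [card_A6, Nat.card_perm, ← Subgroup.index] at hc
      have := Nat.factorial_le hle
      simp only [Nat.factorial] at this
      omega
    · refine hne (eq_top_iff.mpr fun g _ => ?_)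
      have hg : g ∈ ψ.ker := h ▸ Subgroup.mem_top g
      have := congrArg (fun p : Equiv.Perm (A6 ⧸ H) => p (1 : A6)) hg
      simpa [ψ, QuotientGroup.eq] using this
  have hm0 : 0 < m := Nat.pos_of_ne_zero fun e => by rw [e, zero_mul] at hidx; omega
  rcases Nat.lt_or_ge m 2 with h | h
  · -- forty-five elements
    have hm1 : m = 1 := by omega
    rw [hm1, mul_one] at hm
    let P : Sylow 5 H := default
    have hP : Nat.card P = 5 := by
      rw [P.card_eq_multiplicity, hm, show (45 : ℕ).factorization 5 = 1 by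
        rw [show (45 : ℕ) = 5 * 9 by norm_num, Nat.factorization_mul (by norm_num) (by norm_num)]
        simp [Nat.Prime.factorization_self (show Nat.Prime 5 by norm_num),
          Nat.factorization_eq_zero_of_not_dvd (show ¬ 5 ∣ 9 by norm_num)]]
      norm_num
    have hn : Nat.card (Sylow 5 H) = 1 := by
      have h1 := card_sylow_modEq_one 5 H
      have h2 := P.card_dvd_index
      have h3' := (P : Subgroup H).card_mul_index
      rw [hP, hm] at h3'
      rw [show (P : Subgroup H).index = 9 by omega] at h2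
      have hle := Nat.le_of_dvd (by norm_num) h2
      generalize Nat.card (Sylow 5 H) = N at h1 h2 hle
      interval_cases N <;> first | rfl | exact absurd h1 (by decide) | omega
    haveI : Subsingleton (Sylow 5 H) := (Nat.card_eq_one_iff_unique.mp hn).1
    haveI hPn : (P : Subgroup H).Normal := P.normal_of_subsingleton
    obtain ⟨y, hy⟩ : ∃ y : H, (y : A6) = b * c := ⟨⟨_, hyH⟩, rfl⟩
    have hyP : Subgroup.zpowers y = (P : Subgroup H) := by
      have hy5 : Nat.card (Subgroup.zpowers y) = 5 := by rw [Nat.card_zpowers, ← Subgroup.orderOf_coe, hy, h5]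
      obtain ⟨Q, hQ⟩ := (IsPGroup.of_card (n := 1) (hy5.trans (pow_one 5).symm)).exists_le_sylow
      rw [Subsingleton.elim Q P] at hQ
      exact Subgroup.eq_of_le_of_card_ge hQ (by rw [hy5]; exact hP.le)
    have hc : (⟨a, haH⟩ : H) * y * (⟨a, haH⟩ : H)⁻¹ ∈ Subgroup.zpowers y :=
      hyP ▸ hPn.conj_mem y (hyP ▸ Subgroup.mem_zpowers y) _
    obtain ⟨i, hi⟩ := (mem_powers_iff_mem_zpowers (x := y)).mpr hc
    have hi' : (b * c) ^ i = a * (b * c) * a⁻¹ := by
      have := congrArg Subtype.val hi
      simpa [hy] using this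
    rw [← pow_mod_orderOf, h5] at hi'
    have hlt : i % 5 < 5 := Nat.mod_lt _ (by norm_num)
    generalize i % 5 = j at hi' hlt
    have h125 : (b * c) ^ (j * j * j) = b * c := by
      have step : ∀ n : ℕ, a * (b * c) ^ n * a⁻¹ = (b * c) ^ (j * n) := fun n => by
        rw [← conj_pow, ← hi', ← pow_mul]
      have e : b * c = (a * a * a) * (b * c) * (a * a * a)⁻¹ := by rw [a3, one_mul, inv_one, mul_one]
      conv_rhs => rw [e, show (a * a * a) * (b * c) * (a * a * a)⁻¹ = a * (a * (a * (b * c) * a⁻¹) * a⁻¹) * a⁻¹ by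
        group]
      rw [← hi', step, step, mul_assoc]
    have hmod : (j * j * j) % 5 = 1 := by
      have : (b * c) ^ (j * j * j % 5) = (b * c) ^ 1 := by rw [← h5, pow_mod_orderOf, h125, pow_one]
      exact pow_injOn_Iio_orderOf (by rw [h5]; exact Nat.mod_lt _ (by norm_num)) (by rw [h5]; norm_num) this
    have hj1 : j = 1 := by interval_cases j <;> omega
    rw [hj1, pow_one] at hi'
    exact abc (eq_mul_inv_iff_mul_eq.mp hi').symm
  · exact hsmall (by nlinarith)

/-- the first system: two disjoint three-cycles -/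
def gens1 : Gens where
  a := ⟨ofList ![1, 2, 0, 3, 4, 5] ![2, 0, 1, 3, 4, 5], Perm.mem_alternatingGroup.mpr (by decide +kernel)⟩
  b := ⟨ofList ![0, 1, 2, 4, 5, 3] ![0, 1, 2, 5, 3, 4], Perm.mem_alternatingGroup.mpr (by decide +kernel)⟩
  c := ⟨ofList ![1, 3, 2, 0, 4, 5] ![3, 0, 2, 1, 4, 5], Perm.mem_alternatingGroup.mpr (by decide +kernel)⟩
  t := ⟨ofList ![3, 4, 5, 1, 0, 2] ![4, 3, 5, 0, 1, 2], Perm.mem_alternatingGroup.mpr (by decide +kernel)⟩
  k := ⟨ofList ![0, 1, 3, 2, 5, 4] ![0, 1, 3, 2, 5, 4], Perm.mem_alternatingGroup.mpr (by decide +kernel)⟩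
  a3 := by decide +kernel
  b3 := by decide +kernel
  c3 := by decide +kernel
  t4 := by decide +kernel
  ab := by decide +kernel
  ta := by decide +kernel
  tb := by decide +kernel
  ka := by decide +kernel
  vc := by decide +kernel
  ac := by decide +kernel
  bc := by decide +kernel
  ct := by decide +kernel
  ane := by decide +kernel
  acne := by decide +kernel
  bcne := by decide +kernel
  gen := gen_of (by decide +kernel) (by decide +kernel) (by decide +kernel) (by decide +kernel) (by decide +kernel)
    (by decide +kernel) (by decide +kernel) (by decide +kernel) (by decide +kernel) (by decide +kernel)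

/-- the second system: their product and quotient -/
def gens2 : Gens where
  a := ⟨ofList ![1, 2, 0, 4, 5, 3] ![2, 0, 1, 5, 3, 4], Perm.mem_alternatingGroup.mpr (by decide +kernel)⟩
  b := ⟨ofList ![1, 2, 0, 5, 3, 4] ![2, 0, 1, 4, 5, 3], Perm.mem_alternatingGroup.mpr (by decide +kernel)⟩
  c := ⟨ofList ![2, 4, 5, 1, 3, 0] ![5, 3, 0, 4, 1, 2], Perm.mem_alternatingGroup.mpr (by decide +kernel)⟩
  t := ⟨ofList ![3, 5, 4, 0, 1, 2] ![3, 4, 5, 0, 2, 1], Perm.mem_alternatingGroup.mpr (by decide +kernel)⟩
  k := ⟨ofList ![1, 4, 3, 0, 2, 5] ![3, 0, 4, 2, 1, 5], Perm.mem_alternatingGroup.mpr (by decide +kernel)⟩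
  a3 := by decide +kernel
  b3 := by decide +kernel
  c3 := by decide +kernel
  t4 := by decide +kernel
  ab := by decide +kernel
  ta := by decide +kernel
  tb := by decide +kernel
  ka := by decide +kernel
  vc := by decide +kernel
  ac := by decide +kernel
  bc := by decide +kernel
  ct := by decide +kernel
  ane := by decide +kernel
  acne := by decide +kernel
  bcne := by decide +kernel
  gen := gen_of (by decide +kernel) (by decide +kernel) (by decide +kernel) (by decide +kernel) (by decide +kernel)
    (by decide +kernel) (by decide +kernel) (by decide +kernel) (by decide +kernel) (by decide +kernel)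

theorem gens2_a : gens2.a = gens1.a * gens1.b := by decide +kernel

theorem gens2_b : gens2.b = gens1.a * (gens1.b * gens1.b) := by decide +kernel

end Cfsg.Agent.Spor.ExtraS3A6
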