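import Mathlib.Algebra.Group.Subgroup.Finite
import Mathlib.Algebra.Group.Equiv.Basic
import Mathlib.Algebra.CharP.Two
import Mathlib.Data.ZMod.Basic
import Mathlib.SetTheory.Cardinal.Finite
import Mathlib.GroupTheory.Coset.Card
import Mathlib.Tactic.Abel
import Mathlib.Tactic.IntervalCases
import Mathlib.Tactic.Linarith

/-!
A quadratic space of order 256 over two elements, and its isometries of order three: fixed and moved parts,
commuting pairs, invariant four-element parts.
-/

set_option autoImplicit false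
set_option linter.unusedSectionVars false

namespace Cfsg.Agent.Spor.ExtraS3A6

universe u

/-- the quadratic space -/
structure Space (V : Type u) [AddCommGroup V] where
  q : V → ZMod 2
  card : Nat.card V = 256
  self_add : ∀ x : V, x + x = 0
  biadd : ∀ x y z, q (x + y + z) + q (x + y) + q z = (q (x + z) + q x + q z) + (q (y + z) + q y + q z)
  nondeg : ∀ x, x ≠ 0 → ∃ y, q (x + y) + q x + q y = 1

namespace Space

variable {V : Type u} [AddCommGroup V] (S : Space V)
include S

/-- the polar form -/
def b (x y : V) : ZMod 2 := S.q (x + y) + S.q x + S.q y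

theorem b_comm (x y : V) : S.b x y = S.b y x := by rw [b, b, add_comm x y]; abel

theorem b_add_left (x y z : V) : S.b (x + y) z = S.b x z + S.b y z := S.biadd x y z

theorem b_add_right (x y z : V) : S.b x (y + z) = S.b x y + S.b x z := by
  rw [S.b_comm x, S.b_add_left, S.b_comm y, S.b_comm z]

theorem eq_of_add {x y : V} (h : x + y = 0) : x = y := by
  calc x = x + (y + y) := by rw [S.self_add, add_zero]
    _ = y := by rw [← add_assoc, h, zero_add]

theorem add_cancel (x y : V) : x + (x + y) = y := by rw [← add_assoc, S.self_add, zero_add]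

theorem neg_eq (x : V) : -x = x := neg_eq_of_add_eq_zero_left (S.self_add x)

theorem q_zero : S.q 0 = 0 := by
  have h := S.biadd 0 0 0
  simp only [add_zero] at h
  revert h
  generalize S.q 0 = p
  revert p
  decide

theorem b_zero_left (x : V) : S.b 0 x = 0 := by
  rw [b, zero_add, S.q_zero, add_zero, CharTwo.add_self_eq_zero]

theorem b_zero_right (x : V) : S.b x 0 = 0 := by rw [S.b_comm, S.b_zero_left]

theorem b_self (x : V) : S.b x x = 0 := by
  rw [b, S.self_add, S.q_zero, zero_add, CharTwo.add_self_eq_zero]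

theorem q_add (x y : V) : S.q (x + y) = S.q x + S.q y + S.b x y := by
  rw [b]
  generalize S.q (x + y) = p, S.q x = r, S.q y = s
  revert p r s
  decide

theorem eq_zero {x : V} (h : ∀ y, S.b x y = 0) : x = 0 := by
  by_contra hx
  obtain ⟨y, hy⟩ := S.nondeg x hx
  exact one_ne_zero (hy.symm.trans (h y))

/-- an isometry -/
def IsIso (f : V ≃+ V) : Prop := ∀ x, S.q (f x) = S.q x

theorem IsIso.b_eq {f : V ≃+ V} (hf : S.IsIso f) (x y : V) : S.b (f x) (f y) = S.b x y := by
  rw [b, b, ← map_add, hf, hf, hf]

/-! ### elements of order three -/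

/-- the sum over the group generated -/
def N (_S : Space V) (f : V ≃+ V) : V →+ V :=
  AddMonoidHom.mk' (fun x => x + f x + f (f x)) fun x y => by simp only [map_add]; abel

theorem N_apply (f : V ≃+ V) (x : V) : S.N f x = x + f x + f (f x) := rfl

variable {f g : V ≃+ V}

theorem fix_N (hf : ∀ x, f (f (f x)) = x) (x : V) : f (S.N f x) = S.N f x := by
  simp only [N_apply, map_add, hf]; abel

theorem N_of_fixed {x : V} (h : f x = x) : S.N f x = x := by
  rw [N_apply, h, h, S.self_add, zero_add]

theorem eq_zero_of_fixed {x : V} (h : f x = x) (h' : S.N f x = 0) : x = 0 := by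
  rwa [S.N_of_fixed h] at h'

theorem N_moved_part (hf : ∀ x, f (f (f x)) = x) (x : V) : S.N f (x + S.N f x) = 0 := by
  rw [map_add, S.N_of_fixed (S.fix_N hf x), S.self_add]

theorem N_comm (hfg : ∀ x, f (g x) = g (f x)) (x : V) : S.N f (g x) = g (S.N f x) := by
  simp only [N_apply, map_add, hfg]

theorem orth (hi : S.IsIso f) {x y : V} (hx : f x = x) (hy : S.N f y = 0) : S.b x y = 0 := by
  have h1 : S.b x (f y) = S.b x y := by
    have h := hi.b_eq S x y
    rwa [hx] at h
  have h2 : S.b x (f (f y)) = S.b x y := by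
    have h := hi.b_eq S x (f y)
    rw [hx] at h
    exact h.trans h1
  have h : S.b x (y + f y + f (f y)) = 0 := by rw [← S.N_apply, hy, S.b_zero_right]
  rw [S.b_add_right, S.b_add_right, h1, h2, CharTwo.add_self_eq_zero, zero_add] at h
  exact h

/-- what is orthogonal to the moved part is fixed -/
theorem fixed_of_perp (hf : ∀ x, f (f (f x)) = x) (hi : S.IsIso f) {x : V}
    (h : ∀ y, S.N f y = 0 → S.b x y = 0) : f x = x := by
  have e : x = S.N f x := by
    refine S.eq_of_add (S.eq_zero fun y => ?_)
    conv_lhs => rw [← S.add_cancel (S.N f y) y, S.b_add_right]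
    have hm : S.N f (S.N f y + y) = 0 := by rw [add_comm]; exact S.N_moved_part hf y
    rw [S.b_comm _ (S.N f y), S.orth hi (S.fix_N hf y) (S.N_moved_part hf x), zero_add, S.b_add_left,
      h _ hm, S.orth hi (S.fix_N hf x) hm, add_zero]
  rw [e, S.fix_N hf]

/-- the moved part is nondegenerate -/
theorem moved_nondeg (hf : ∀ x, f (f (f x)) = x) (hi : S.IsIso f) {x : V} (hx : S.N f x = 0)
    (h : ∀ y, S.N f y = 0 → S.b x y = 0) : x = 0 :=
  S.eq_zero_of_fixed (S.fixed_of_perp hf hi h) hx

/-- the image of the complement map is moved -/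
theorem N_sub (hf : ∀ x, f (f (f x)) = x) (x : V) : S.N f (x + f x) = 0 := by
  rw [map_add, S.N_comm (fun _ => rfl), S.fix_N hf, S.self_add]

/-! ### invariant subgroups without fixed points -/

theorem rot {x : V} (h : S.N f x = 0) : f (f x) = x + f x := by
  rw [N_apply] at h
  exact (S.eq_of_add h).symm

/-- the four elements beside a moved one -/
theorem four_mem (hf : ∀ x, f (f (f x)) = x) {x : V} (h : S.N f x = 0) (hx : x ≠ 0) :
    x ≠ f x ∧ x ≠ f (f x) ∧ f x ≠ f (f x) ∧ f x ≠ 0 ∧ f (f x) ≠ 0 := by
  have h1 : x ≠ f x := fun e => hx (S.eq_zero_of_fixed e.symm h)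
  have h0 : f x ≠ 0 := fun e => hx (f.injective (e.trans (map_zero f).symm))
  refine ⟨h1, fun e => h1 ?_, fun e => h1 (f.injective e), h0, fun e => h0 (f.injective (e.trans (map_zero f).symm))⟩
  conv_rhs => rw [e, hf]

theorem plane_add {u v w x y : V} (hw : w = u + v) (hx : x = 0 ∨ x = u ∨ x = v ∨ x = w)
    (hy : y = 0 ∨ y = u ∨ y = v ∨ y = w) : x + y = 0 ∨ x + y = u ∨ x + y = v ∨ x + y = w := by
  have e1 : u + (u + v) = v := S.add_cancel u v
  have e2 : v + (u + v) = u := by rw [add_comm u v]; exact S.add_cancel v u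
  have e3 : u + v + u = v := by rw [add_comm (u + v)]; exact e1
  have e4 : u + v + v = u := by rw [add_comm (u + v)]; exact e2
  subst hw
  rcases hx with ex | ex | ex | ex <;> rcases hy with ey | ey | ey | ey <;> rw [ex, ey] <;>
    simp only [zero_add, add_zero, S.self_add, e1, e2, e3, e4, add_comm v u, true_or, or_true]

/-- an invariant part without fixed points has four or at least sixteen elements -/
theorem four_or_more [Finite V] (hf : ∀ x, f (f (f x)) = x) (A : AddSubgroup V) (hA : ∀ x ∈ A, f x ∈ A)
    (hN : ∀ x ∈ A, S.N f x = 0) {u : V} (hu : u ∈ A) (hu0 : u ≠ 0) :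
    (∀ x ∈ A, x = 0 ∨ x = u ∨ x = f u ∨ x = f (f u)) ∧ Nat.card A = 4 ∨ 16 ≤ Nat.card A := by
  classical
  obtain ⟨h1, h2, h3, h4, h5⟩ := S.four_mem hf (hN u hu) hu0
  let P : Finset V := {0, u, f u, f (f u)}
  have hP : P.card = 4 := by
    simp [P, Ne.symm hu0, Ne.symm h4, Ne.symm h5, h1, h2, h3]
  by_cases hall : ∀ x ∈ A, x = 0 ∨ x = u ∨ x = f u ∨ x = f (f u)
  · refine Or.inl ⟨hall, ?_⟩
    have e : (A : Set V) = (P : Set V) := by
      ext x
      simp only [P, Finset.coe_insert, Finset.coe_singleton, Set.mem_insert_iff, Set.mem_singleton_iff,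
        SetLike.mem_coe]
      exact ⟨hall x, fun h => by rcases h with rfl | rfl | rfl | rfl; exacts [A.zero_mem, hu, hA _ hu, hA _ (hA _ hu)]⟩
    rw [show Nat.card A = Nat.card ↥(A : Set V) from rfl, e, Nat.card_coe_set_eq, Set.ncard_coe_finset, hP]
  · push Not at hall
    obtain ⟨w, hw, hw0, hwu, hwu1, hwu2⟩ := hall
    right
    have hinj : Function.Injective fun p : ↥P × ↥({0, w, f w, f (f w)} : Finset V) =>
        (⟨(p.1 : V) + (p.2 : V), A.add_mem (by
          have := p.1.2
          simp only [P, Finset.mem_insert, Finset.mem_singleton] at this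
          rcases this with e | e | e | e <;> rw [e]
          exacts [A.zero_mem, hu, hA _ hu, hA _ (hA _ hu)]) (by
          have := p.2.2
          simp only [Finset.mem_insert, Finset.mem_singleton] at this
          rcases this with e | e | e | e <;> rw [e]
          exacts [A.zero_mem, hw, hA _ hw, hA _ (hA _ hw)])⟩ : A) := by
      have hcl : ∀ {x y}, x ∈ P → y ∈ P → x + y ∈ P := by
        intro x y hx hy
        simp only [P, Finset.mem_insert, Finset.mem_singleton] at hx hy ⊢
        exact S.plane_add (S.rot (hN u hu)) hx hy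
      have hrot : ∀ {y}, y ∈ P → f y ∈ P := by
        intro y hy
        simp only [P, Finset.mem_insert, Finset.mem_singleton] at hy ⊢
        rcases hy with rfl | rfl | rfl | rfl
        exacts [Or.inl (map_zero f), Or.inr (Or.inr (Or.inl rfl)), Or.inr (Or.inr (Or.inr rfl)),
          Or.inr (Or.inl (hf u))]
      have hwP : ∀ {y}, y ∈ ({0, w, f w, f (f w)} : Finset V) → y ∈ P → y = 0 := by
        intro y hy hyP
        have hwn : w ∉ P := by simp [P, hw0, hwu, hwu1, hwu2]
        simp only [Finset.mem_insert, Finset.mem_singleton] at hy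
        rcases hy with rfl | rfl | rfl | rfl
        · rfl
        · exact absurd hyP hwn
        · exact absurd (hf w ▸ hrot (hrot hyP)) hwn
        · exact absurd (hf w ▸ hrot hyP) hwn
      rintro ⟨⟨x, hx⟩, ⟨y, hy⟩⟩ ⟨⟨x', hx'⟩, ⟨y', hy'⟩⟩ e
      have e' : x + y = x' + y' := congrArg Subtype.val e
      have e2 : x + x' = y + y' := S.eq_of_add (by
        rw [show x + x' + (y + y') = (x + y) + (x' + y') by abel, e', S.self_add])
      have hd : ∀ {y y'}, y ∈ ({0, w, f w, f (f w)} : Finset V) → y' ∈ ({0, w, f w, f (f w)} : Finset V) →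
          y + y' ∈ ({0, w, f w, f (f w)} : Finset V) := by
        intro x y hx hy
        simp only [Finset.mem_insert, Finset.mem_singleton] at hx hy ⊢
        exact S.plane_add (S.rot (hN w hw)) hx hy
      have h0 : y + y' = 0 := hwP (hd hy hy') (e2 ▸ hcl hx hx')
      have hy_eq : y = y' := S.eq_of_add h0
      have hx_eq : x = x' := S.eq_of_add (e2.trans h0)
      exact Prod.ext (Subtype.ext hx_eq) (Subtype.ext hy_eq)
    have h := Nat.card_le_card_of_injective _ hinj
    have hw' := S.four_mem hf (hN w hw) hw0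
    have hwc : ({0, w, f w, f (f w)} : Finset V).card = 4 := by
      simp [Ne.symm hw0, Ne.symm hw'.2.2.2.1, Ne.symm hw'.2.2.2.2, hw'.1, hw'.2.1, hw'.2.2.1]
    rw [Nat.card_prod, Nat.card_eq_finsetCard, Nat.card_eq_finsetCard, hP, hwc] at h
    exact h

/-- commuting maps on a four-element part inverted by a third map are trivial -/
theorem trivial_on_four (hf : ∀ x, f (f (f x)) = x) {r s : V ≃+ V} (hr : ∀ x, r (r (r x)) = x) {A : AddSubgroup V}
    {u : V} (hu : u ∈ A) (hu0 : u ≠ 0) (hN : S.N f u = 0)
    (hall : ∀ x ∈ A, x = 0 ∨ x = u ∨ x = f u ∨ x = f (f u)) (hrA : ∀ x ∈ A, r x ∈ A) (hsA : ∀ x ∈ A, s x ∈ A)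
    (hfr : ∀ x, r (f x) = f (r x)) (hsr : ∀ x, s (r x) = r (s x)) (hsf : ∀ x, s (f x) = f (f (s x))) :
    ∀ x ∈ A, r x = x := by
  obtain ⟨h1, h2, h3, h4, h5⟩ := S.four_mem hf hN hu0
  suffices h : r u = u by
    intro x hx
    rcases hall x hx with rfl | rfl | rfl | rfl
    · exact map_zero r
    · exact h
    · rw [hfr, h]
    · rw [hfr, hfr, h]
  have hfA : ∀ y ∈ A, y = u ∨ y = f u ∨ y = f (f u) → r y = r u ∨ r y = f (r u) ∨ r y = f (f (r u)) := fun y _ h => by
    rcases h with rfl | rfl | rfl
    exacts [Or.inl rfl, Or.inr (Or.inl (hfr u)), Or.inr (Or.inr (by rw [hfr, hfr]))]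
  -- the image of the element under the inverting map
  obtain hs | hs | hs | hs := hall (s u) (hsA u hu)
  · exact absurd (s.injective (hs.trans (map_zero s).symm)) hu0
  all_goals
    rcases hall (r u) (hrA u hu) with e | e | e | e
    · exact absurd (r.injective (e.trans (map_zero r).symm)) hu0
    · exact e
    all_goals
      exfalso
      have key := hsr u
      rw [e, hs] at key
      simp only [hsf, hs, hfr, e, hf] at key
      first
        | exact h1 key
        | exact h1 key.symm
        | exact h2 key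
        | exact h2 key.symm
        | exact h3 key
        | exact h3 key.symm

end Space

end Cfsg.Agent.Spor.ExtraS3A6
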